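import Groth.Agent.Zeta.K468.Uncond
import Groth.Agent.Flat2E.FinSepClosure
import Mathlib.RingTheory.Localization.InvSubmonoid
import Mathlib.FieldTheory.SeparablyGenerated

/-!
# Models of a finitely generated domain over the ring of constants
-/

set_option autoImplicit false
universe u v

open Algebra

namespace K797.Alg

section Basis

variable (k₀ : Type v) (L : Type u) [Field k₀] [Field L] [Algebra k₀ L]
  [Algebra.EssFiniteType k₀ L]

theorem finiteDimensional_closure : FiniteDimensional k₀ (algebraicClosure k₀ L) :=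
  Groth.Agent.Flat2E.FinSepClosure.finiteDimensional_of_isAlgebraic _

theorem hK (a : L) (ha : IsSeparable (algebraicClosure k₀ L) a) :
    a ∈ (algebraMap (algebraicClosure k₀ L) L).range := by
  have h1 : IsIntegral (algebraicClosure k₀ L) a := ha.isIntegral
  have h2 : IsIntegral k₀ a := isIntegral_trans (A := algebraicClosure k₀ L) a h1
  exact ⟨⟨a, mem_algebraicClosure_iff'.2 h2⟩, rfl⟩

theorem exists_basis [PerfectField k₀] (d : ℕ) (hd : Algebra.trdeg k₀ L = d) :
    ∃ v : Fin d → L, AlgebraicIndependent (algebraicClosure k₀ L) v ∧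
      FiniteDimensional (IntermediateField.adjoin (algebraicClosure k₀ L) (Set.range v)) L ∧
      Algebra.IsSeparable (IntermediateField.adjoin (algebraicClosure k₀ L) (Set.range v)) L := by
  classical
  let K := algebraicClosure k₀ L
  have hp : PerfectField K := Algebra.IsAlgebraic.perfectField k₀
  have hess : Algebra.EssFiniteType K L := .of_comp k₀ K L
  obtain ⟨s, hs, hsep⟩ := exists_isTranscendenceBasis_and_isSeparable_of_perfectField K L
  have hcard : s.card = d := by
    have h0 : Algebra.trdeg k₀ K = 0 := trdeg_eq_zero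
    have h1 := lift_trdeg_add_eq k₀ K L
    rw [h0, hd, Cardinal.lift_zero, zero_add] at h1
    have h3 : Algebra.trdeg K L = d := by simpa using h1
    have h4 := hs.lift_cardinalMk_eq_trdeg
    rw [h3] at h4
    have h5 : (s.card : Cardinal.{u}) = d := by simpa using h4
    exact_mod_cast h5
  let e : Fin d ≃ s := (finCongr hcard.symm).trans s.equivFin.symm
  let v : Fin d → L := fun i => (e i : L)
  have hv : AlgebraicIndependent K v := hs.1.comp e e.injective
  have hrange : Set.range v = (s : Set L) := by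
    ext z
    constructor
    · rintro ⟨i, rfl⟩
      exact (e i).2
    · intro hz
      exact ⟨e.symm ⟨z, hz⟩, by simp [v]⟩
  have sep : Algebra.IsSeparable (IntermediateField.adjoin K (Set.range v)) L := by
    rw [hrange]; exact hsep
  have fin : FiniteDimensional (IntermediateField.adjoin K (Set.range v)) L := by
    have : Algebra.EssFiniteType (IntermediateField.adjoin K (Set.range v)) L := .of_comp K _ _
    exact Algebra.finite_of_essFiniteType_of_isAlgebraic
  exact ⟨v, hv, fin, sep⟩

end Basis

section Model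

variable (A : Type u) [CommRing A] [IsDomain A] [Algebra.FiniteType ℤ A] (L : Type u) [Field L]
  [Algebra A L] [IsFractionRing A L] (R : Type u) [CommRing R] [Module.Finite ℤ R] [Algebra R L]

/-- A denominator for `R`. -/
theorem exists_denominator : ∃ g : A, g ≠ 0 ∧ ∀ r : R, ∃ a : A,
    algebraMap A L a = algebraMap A L g * algebraMap R L r := by
  classical
  obtain ⟨d, w, hw⟩ := Module.Finite.exists_fin (R := ℤ) (M := R)
  obtain ⟨b, hb⟩ := IsLocalization.exist_integer_multiples_of_finset (nonZeroDivisors A)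
    (Finset.univ.image fun i => algebraMap R L (w i))
  refine ⟨b, nonZeroDivisors.ne_zero b.2, fun r => ?_⟩
  have hr : r ∈ Submodule.span ℤ (Set.range w) := by rw [hw]; trivial
  induction hr using Submodule.span_induction with
  | mem r hr =>
    obtain ⟨i, rfl⟩ := hr
    obtain ⟨a, ha⟩ := hb (algebraMap R L (w i)) (Finset.mem_image_of_mem _ (Finset.mem_univ i))
    exact ⟨a, by rw [ha]; exact Algebra.smul_def _ _⟩
  | zero => exact ⟨0, by simp⟩
  | add x y _ _ hx hy =>
    obtain ⟨a, ha⟩ := hx
    obtain ⟨a', ha'⟩ := hy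
    exact ⟨a + a', by rw [map_add, map_add, ha, ha', mul_add]⟩
  | smul n x _ hx =>
    obtain ⟨a, ha⟩ := hx
    exact ⟨n • a, by rw [map_zsmul, map_zsmul, ha, mul_smul_comm]⟩

/-- The model of `A` over `R`: `R ⊆ A[1/g]`. -/
theorem exists_model : ∃ (g : A) (A₂ : Subalgebra R L) (j : A →+* A₂), g ≠ 0 ∧
    (letI := j.toAlgebra; IsLocalization.Away g A₂) ∧ A₂.FG ∧
    ∀ x : L, ∃ a ∈ A₂, ∃ b ∈ A₂, b ≠ 0 ∧ x = a / b := by
  obtain ⟨g, hg, hgR⟩ := exists_denominator A L R
  have hgL : algebraMap A L g ≠ 0 := by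
    rw [Ne, map_eq_zero_iff _ (IsFractionRing.injective A L)]; exact hg
  let A₂ : Subalgebra R L := Algebra.adjoin R (Set.range (algebraMap A L) ∪ {(algebraMap A L g)⁻¹})
  have hmem : ∀ x ∈ A₂, ∃ (n : ℕ) (a : A), x * algebraMap A L g ^ n = algebraMap A L a := by
    intro x hx
    induction hx using Algebra.adjoin_induction with
    | mem x hx =>
      rcases hx with ⟨a, rfl⟩ | hx
      · exact ⟨0, a, by simp⟩
      · rw [Set.mem_singleton_iff] at hx
        exact ⟨1, 1, by rw [hx, pow_one, inv_mul_cancel₀ hgL, map_one]⟩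
    | algebraMap r =>
      obtain ⟨a, ha⟩ := hgR r
      exact ⟨1, a, by rw [pow_one, mul_comm, ha]⟩
    | add x y _ _ hx hy =>
      obtain ⟨n, a, ha⟩ := hx
      obtain ⟨m, b, hb⟩ := hy
      refine ⟨n + m, a * g ^ m + b * g ^ n, ?_⟩
      rw [map_add, map_mul, map_mul, map_pow, map_pow, ← ha, ← hb]
      ring
    | mul x y _ _ hx hy =>
      obtain ⟨n, a, ha⟩ := hx
      obtain ⟨m, b, hb⟩ := hy
      refine ⟨n + m, a * b, ?_⟩
      rw [map_mul, ← ha, ← hb]
      ring
  have hA : ∀ a : A, algebraMap A L a ∈ A₂ := fun a => Algebra.subset_adjoin (Or.inl ⟨a, rfl⟩)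
  have hginv : (algebraMap A L g)⁻¹ ∈ A₂ := Algebra.subset_adjoin (Or.inr rfl)
  let j : A →+* A₂ := (algebraMap A L).codRestrict A₂ hA
  have hj : ∀ a, ((j a : A₂) : L) = algebraMap A L a := fun a => rfl
  have hloc : letI := j.toAlgebra; IsLocalization.Away g A₂ := by
    letI := j.toAlgebra
    refine ⟨?_⟩
    refine { map_units := ?_, surj := ?_, exists_of_eq := ?_ }
    · rintro ⟨_, n, rfl⟩
      have hu : IsUnit (j g) := IsUnit.of_mul_eq_one (⟨_, hginv⟩ : A₂) (Subtype.ext (by
        change algebraMap A L g * (algebraMap A L g)⁻¹ = 1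
        exact mul_inv_cancel₀ hgL))
      change IsUnit (j (g ^ n))
      rw [map_pow]
      exact hu.pow n
    · rintro ⟨x, hx⟩
      obtain ⟨n, a, ha⟩ := hmem x hx
      refine ⟨(a, ⟨g ^ n, n, rfl⟩), Subtype.ext ?_⟩
      change x * algebraMap A L (g ^ n) = algebraMap A L a
      rw [map_pow, ha]
    · intro x y hxy
      have h1 : algebraMap A L x = algebraMap A L y := congrArg Subtype.val hxy
      exact ⟨1, by rw [IsFractionRing.injective A L h1]⟩
  refine ⟨g, A₂, j, hg, hloc, ?_, ?_⟩
  · letI := j.toAlgebra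
    have h1 : IsLocalization.Away g A₂ := hloc
    have h2 : Algebra.FiniteType A A₂ :=
      IsLocalization.finiteType_of_monoid_fg (Submonoid.powers g) A₂
    have h4 : IsScalarTower ℤ A A₂ := IsScalarTower.of_algebraMap_eq' (Subsingleton.elim _ _)
    have h3 : Algebra.FiniteType ℤ A₂ := Algebra.FiniteType.trans ‹_› h2
    have h5 : IsScalarTower ℤ R A₂ := IsScalarTower.of_algebraMap_eq' (Subsingleton.elim _ _)
    rw [Subalgebra.fg_iff_finiteType]
    exact Algebra.FiniteType.of_restrictScalars_finiteType ℤ R A₂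
  · intro x
    obtain ⟨a, b, hb, rfl⟩ := IsFractionRing.div_surjective (A := A) x
    refine ⟨_, hA a, _, hA b, ?_, rfl⟩
    rw [Ne, map_eq_zero_iff _ (IsFractionRing.injective A L)]
    exact nonZeroDivisors.ne_zero hb

end Model

section Away

open K468.Cnt

variable {R A A' : Type*} [CommRing R] [CommRing A] [CommRing A'] [Algebra R A] [Algebra A A']
  [Algebra R A'] [IsScalarTower R A A']

theorem N_away (h : R) [IsLocalization.Away (algebraMap R A h) A'] (F : Type*) [Field F]
    (φ : R →+* F) (hφ : φ h ≠ 0) : N A' φ = N A φ := by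
  rw [← card_ne_eq_N_away (φ := φ) A (algebraMap R A h) A', N]
  refine Nat.card_congr (Equiv.subtypeUnivEquiv fun ψ => ?_)
  rw [← RingHom.comp_apply, ψ.2]
  exact hφ

end Away

end K797.Alg
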