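import Groth.Agent.Zeta.K797.Base

/-!
# The factorisations of `L_A(s)` through the zeta function of the base
-/

set_option autoImplicit false
universe u

noncomputable section

open Filter Topology CategoryTheory AlgebraicGeometry NumberField
open K468.EP K468.Arith K468.Cnt K797.Comp K797.Base K797.Mer

namespace K797.Rel

/-- The zeta function of an affine arithmetic scheme. -/
theorem L_spec (A : Type u) [CommRing A] [Algebra.FiniteType ℤ A] (d : ℕ)
    (hd : topologicalKrullDim (Spec (CommRingCat.of A)) ≤ d) (s : ℂ) (hs : (d : ℝ) < s.re) :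
    LSeriesSummable (fun n => (cN (nm A) n : ℂ)) s ∧
      LSeries (Zeta.arithCoeff (Spec (CommRingCat.of A))) s =
        Complex.exp (LSeries (fun n => (cN (nm A) n : ℂ)) s) := by
  have h := LSeries_arithCoeff (𝟙 (Spec (CommRingCat.of A))) d hd s hs
  simp only [cN_nX_spec] at h
  exact h.2

section

variable (R A : Type u) [CommRing R] [CommRing A] [Algebra R A] [Algebra.FiniteType ℤ R]
  [Algebra.FiniteType ℤ A] (ρ : ℕ)

theorem L_eq (d e : ℕ) (hd : topologicalKrullDim (Spec (CommRingCat.of A)) ≤ d)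
    (he : topologicalKrullDim (Spec (CommRingCat.of R)) ≤ e) (s : ℂ) (hs : (d : ℝ) < s.re)
    (hs' : (e : ℝ) + ρ < s.re) (hD : LSeriesSummable (fun n => (D R A ρ n : ℂ)) s) :
    LSeries (Zeta.arithCoeff (Spec (CommRingCat.of A))) s =
      LSeries (Zeta.arithCoeff (Spec (CommRingCat.of R))) (s - ρ) *
        Complex.exp (LSeries (fun n => (D R A ρ n : ℂ)) s) := by
  have hre : (e : ℝ) < (s - ρ).re := by
    rw [Complex.sub_re, Complex.natCast_re]
    linarith
  obtain ⟨-, h2⟩ := L_spec A d hd s hs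
  obtain ⟨h3, h4⟩ := L_spec R e he (s - ρ) hre
  rw [h2, h4, LSeries_split R A ρ h3 hD, Complex.exp_add]

end

theorem dim_ringOfIntegers (K : Type u) [Field K] [NumberField K] :
    topologicalKrullDim (Spec (CommRingCat.of (𝓞 K))) ≤ (1 : ℕ) := by
  change topologicalKrullDim (PrimeSpectrum (𝓞 K)) ≤ _
  rw [PrimeSpectrum.topologicalKrullDim_eq_ringKrullDim]
  exact Ring.krullDimLE_iff.1 inferInstance

theorem dim_field (k : Type u) [Field k] :
    topologicalKrullDim (Spec (CommRingCat.of k)) ≤ (0 : ℕ) := by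
  change topologicalKrullDim (PrimeSpectrum k) ≤ _
  rw [PrimeSpectrum.topologicalKrullDim_eq_ringKrullDim, ringKrullDim_eq_zero_of_field]
  rfl

/-- Arithmetic case. -/
theorem ext_int (K : Type u) [Field K] [NumberField K] (A : Type u) [CommRing A]
    [Algebra (𝓞 K) A] [Algebra.FiniteType ℤ A] (ρ : ℕ)
    (hdim : topologicalKrullDim (Spec (CommRingCat.of A)) ≤ (ρ + 1 : ℕ)) (h : 𝓞 K) (h0 : h ≠ 0)
    (hu : IsUnit (algebraMap (𝓞 K) A h)) (C : ℝ) (hC : 0 ≤ C)
    (hLW : ∀ (F : Type u) [Field F] [Finite F] (φ : 𝓞 K →+* F), φ h ≠ 0 →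
      |(N A φ : ℝ) - (Nat.card F : ℝ) ^ ρ| ≤
        C * ((Nat.card F : ℝ) ^ ρ / Real.sqrt (Nat.card F))) :
    Ext (LSeries (Zeta.arithCoeff (Spec (CommRingCat.of A)))) (ρ + 1 : ℕ) 1 True := by
  obtain ⟨B, hB⟩ := exists_hom_bound.{u} (𝓞 K)
  have hN₀ : Ideal.absNorm (Ideal.span {h}) ≠ 0 := by
    rw [Ne, Ideal.absNorm_eq_zero_iff, Ideal.span_singleton_eq_bot]
    exact h0
  have hdvd : h ∣ ((Ideal.absNorm (Ideal.span {h}) : ℕ) : 𝓞 K) :=
    Ideal.mem_span_singleton.1 (Ideal.absNorm_mem _)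
  have hFT : Algebra.FiniteType ℤ (𝓞 K) := inferInstance
  have hD : ∀ s : ℂ, (ρ : ℝ) + 1 / 2 < s.re →
      LSeriesSummable (fun n => (D (𝓞 K) A ρ n : ℂ)) s := fun s hs =>
    summable_D_int ρ h hu hC hLW B hB hN₀ hdvd hs
  have h1 : Ext (fun s => dedekindZeta K (s - ((ρ + 1 : ℕ) : ℝ) + 1)) (ρ + 1 : ℕ) 1 True :=
    Ext.dedekind K fun s _ => rfl
  have h2 : Ext (fun s => Complex.exp (LSeries (fun n => (D (𝓞 K) A ρ n : ℂ)) s))
      (ρ + 1 : ℕ) 0 True :=
    Ext.exp (ε := 1 / 2) (by norm_num) (H := LSeries (fun n => (D (𝓞 K) A ρ n : ℂ)))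
      (fun s hs => analyticAt_LSeries hD (by push_cast at hs; linarith)) fun s _ => rfl
  refine h1.mul h2 fun s hs => ?_
  rw [L_eq (𝓞 K) A ρ (ρ + 1) 1 hdim (dim_ringOfIntegers K) s hs
    (by push_cast at hs ⊢; linarith) (hD s (by push_cast at hs; linarith)),
    LSeries_ringOfIntegers]
  congr 2
  push_cast
  ring

/-- Case of positive characteristic. -/
theorem ext_char (p : ℕ) [hp : Fact p.Prime] (k : Type u) [Field k] [Finite k] [CharP k p]
    (A : Type u) [CommRing A] [Algebra k A] [Algebra.FiniteType ℤ A] (ρ : ℕ)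
    (hdim : topologicalKrullDim (Spec (CommRingCat.of A)) ≤ (ρ : ℕ)) (C : ℝ) (hC : 0 ≤ C)
    (hLW : ∀ (F : Type u) [Field F] [Finite F] (φ : k →+* F),
      |(N A φ : ℝ) - (Nat.card F : ℝ) ^ ρ| ≤
        C * ((Nat.card F : ℝ) ^ ρ / Real.sqrt (Nat.card F))) :
    Ext (LSeries (Zeta.arithCoeff (Spec (CommRingCat.of A)))) (ρ : ℕ) 1 False := by
  have hfin : Module.Finite ℤ k := inferInstance
  have hFT : Algebra.FiniteType ℤ k := inferInstance
  obtain ⟨B, hB⟩ := exists_hom_bound.{u} k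
  have hD : ∀ s : ℂ, (ρ : ℝ) - 1 / 2 < s.re →
      LSeriesSummable (fun n => (D k A ρ n : ℂ)) s := fun s hs =>
    summable_D_char ρ (1 : k) hC (fun F _ _ φ _ => hLW F φ) B hB p
      (fun F _ _ φ => by rw [map_one]; exact one_ne_zero) hs
  have hq : (1 : ℝ) < (Nat.card k : ℝ) := by exact_mod_cast Finite.one_lt_card
  have h1 : Ext (fun s => (1 - (((Nat.card k : ℝ)) : ℂ) ^ ((((ρ : ℕ) : ℝ) : ℂ) - s))⁻¹)
      (ρ : ℕ) 1 False :=
    Ext.local hq fun s _ => rfl
  have h2 : Ext (fun s => Complex.exp (LSeries (fun n => (D k A ρ n : ℂ)) s))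
      (ρ : ℕ) 0 False :=
    Ext.exp (ε := 1 / 2) (by norm_num) (H := LSeries (fun n => (D k A ρ n : ℂ)))
      (fun s hs => analyticAt_LSeries hD (by linarith)) fun s _ => rfl
  refine h1.mul h2 fun s hs => ?_
  rw [L_eq k A ρ ρ 0 hdim (dim_field k) s hs (by push_cast; linarith) (hD s (by linarith)),
    LSeries_finite k (by rw [Complex.sub_re, Complex.natCast_re]; linarith)]
  congr 3
  push_cast
  ring_nf

end K797.Rel
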