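import Groth.Agent.Zeta.K797.Assembly
import Groth.Agent.Zeta.K797.Alg
import Groth.Agent.Zeta.K797.Rel
import Groth.Agent.ValPrufer.K832.DimSub
import Groth.Agent.CalgC.DimFT

/-!
# Meromorphic continuation of the zeta functions of arithmetic schemes
-/

set_option autoImplicit false
universe u

noncomputable section

open CategoryTheory AlgebraicGeometry TopologicalSpace Topology NumberField
open K797.Dim K797.Mer K797.Assembly K468.Arith K468.EP K468.Cnt

namespace K797.Final

instance finType_ulift : Algebra.FiniteType ℤ (ULift.{u} ℤ) := K468.Arith.finiteType_ulift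

theorem e1 : E1.{u} := by
  intro X f _ _ d hd
  have h : ∀ s : ℂ, (d : ℝ) < s.re → LSeriesSummable (fun n => (cN (nX X) n : ℂ)) s :=
    fun s hs => (LSeries_arithCoeff f d hd s hs).2.1
  exact ⟨LSeries (fun n => (cN (nX X) n : ℂ)), fun s hs => K797.Comp.analyticAt_LSeries h hs,
    fun s hs => (LSeries_arithCoeff f d hd s hs).2.2⟩

theorem e2 : E2.{u} := by
  intro X Z f _ _ d U i _ hi hd s hs
  exact LSeries_open_closed f U.ι i (by rw [hi, Scheme.Opens.range_ι]) d hd s hs

theorem exists_struct (A : Type u) [CommRing A] [Algebra.FiniteType ℤ A] :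
    ∃ f : Spec (CommRingCat.of A) ⟶ SZ.{u}, LocallyOfFiniteType f := by
  let φ : ULift.{u} ℤ →+* A := (algebraMap ℤ A).comp (ULift.ringEquiv (R := ℤ)).toRingHom
  refine ⟨Spec.map (CommRingCat.ofHom φ), ?_⟩
  rw [HasRingHomProperty.Spec_iff (P := @LocallyOfFiniteType)]
  have h1 : φ.FiniteType := by
    have h2 : (algebraMap ℤ A).FiniteType := (RingHom.finiteType_algebraMap).2 inferInstance
    exact h2.comp (RingHom.FiniteType.of_surjective _ (ULift.ringEquiv (R := ℤ)).surjective)
  exact h1

theorem finType_away (A A' : Type u) [CommRing A] [CommRing A'] [Algebra A A'] (g : A)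
    [IsLocalization.Away g A'] [Algebra.FiniteType ℤ A] : Algebra.FiniteType ℤ A' := by
  have h1 : Algebra.FiniteType A A' :=
    IsLocalization.finiteType_of_monoid_fg (Submonoid.powers g) A'
  have t1 : IsScalarTower ℤ A A' := IsScalarTower.of_algebraMap_eq' (Subsingleton.elim _ _)
  exact Algebra.FiniteType.trans ‹_› h1

section Away

variable (A A' : Type u) [CommRing A] [IsDomain A] [Algebra.FiniteType ℤ A] [CommRing A']
  [Algebra A A'] (g : A) (hg : g ≠ 0) [IsLocalization.Away g A'] (r : ℕ)
  (hr : topologicalKrullDim (Spec (CommRingCat.of A)) = r)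

/-- The open immersion. -/
abbrev jay : Spec (CommRingCat.of A') ⟶ Spec (CommRingCat.of A) :=
  Spec.map (CommRingCat.ofHom (algebraMap A A'))

include g in
theorem isOpenImmersion_jay : IsOpenImmersion (jay A A') :=
  IsOpenImmersion.of_isLocalization g

theorem range_jay : Set.range (jay A A') = (PrimeSpectrum.basicOpen g : Set (PrimeSpectrum A)) :=
  PrimeSpectrum.localization_away_comap_range A' g

include g hg hr in
theorem dim_away : topologicalKrullDim (Spec (CommRingCat.of A')) = r := by
  obtain ⟨f, hf⟩ := exists_struct A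
  have hj := isOpenImmersion_jay A A' g
  have hirr : IrreducibleSpace (Spec (CommRingCat.of A)) := inferInstance
  let U : (Spec (CommRingCat.of A)).Opens := (jay A A').opensRange
  have hne : (U : Set (Spec (CommRingCat.of A))).Nonempty := by
    change (Set.range (jay A A')).Nonempty
    rw [range_jay A A' g]
    refine ⟨⟨⊥, Ideal.isPrime_bot⟩, ?_⟩
    change g ∉ (⊥ : Ideal A)
    rwa [Ideal.mem_bot]
  have h1 := dim_open f U hne
  rw [hr] at h1
  rw [← h1]
  exact IsHomeomorph.topologicalKrullDim_eq _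
    (jay A A').isOpenEmbedding.isEmbedding.toHomeomorph.isHomeomorph

include g hg hr in
theorem ext_of_away (m : ℕ) (P : Prop) (h : Ext (L (Spec (CommRingCat.of A'))) r m P) :
    Ext (L (Spec (CommRingCat.of A))) r m P := by
  obtain ⟨f, hf⟩ := exists_struct A
  have hj := isOpenImmersion_jay A A' g
  have hirr : IrreducibleSpace (Spec (CommRingCat.of A)) := inferInstance
  obtain ⟨Z, i, hi, hZ, hrange⟩ := exists_closed (Spec (CommRingCat.of A))
    (Set.range (jay A A'))ᶜ (jay A A').isOpenEmbedding.isOpen_range.isClosed_compl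
  have hZdim : topologicalKrullDim Z < r := by
    have h5 := Groth.Agent.S4714.dim_add_one_le (Set.range (jay A A'))ᶜ
      (jay A A').isOpenEmbedding.isOpen_range.isClosed_compl (by
      intro W hW hWV
      have h6 : W = Set.univ := by
        have h := irreducibleComponents_eq_singleton (X := Spec (CommRingCat.of A))
        rw [h] at hW
        exact hW
      rw [h6] at hWV
      have h7 : (⟨⊥, Ideal.isPrime_bot⟩ : PrimeSpectrum A) ∈ Set.range (jay A A') := by
        rw [range_jay A A' g]
        change g ∉ (⊥ : Ideal A)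
        rwa [Ideal.mem_bot]
      exact hWV (Set.mem_univ _) h7)
    rw [dim_eq_range i, hrange]
    rw [hr] at h5
    exact lt_of_add_one_le h5
  exact h.mul (ext_of_lt e1 Z (i ≫ f) r hZdim P) fun s hs =>
    LSeries_open_closed f (jay A A') i hrange r hr.le s hs

end Away

section CharZero

variable (A : Type u) [CommRing A] [IsDomain A] [CharZero A] [Algebra.FiniteType ℤ A]

theorem trdeg_int (L : Type u) [Field L] [Algebra A L] [IsFractionRing A L] [CharZero L] :
    Algebra.trdeg ℤ A = Algebra.trdeg ℚ L := by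
  have fA : FaithfulSMul ℤ A := (faithfulSMul_iff_algebraMap_injective _ _).2
    (algebraMap ℤ A).injective_int
  have fL : FaithfulSMul A L := (faithfulSMul_iff_algebraMap_injective _ _).2
    (IsFractionRing.injective A L)
  have h1 : Algebra.trdeg A L = 0 := by
    have : Algebra.IsAlgebraic A L := IsLocalization.isAlgebraic _ (nonZeroDivisors A)
    exact trdeg_eq_zero
  have h2 : Algebra.trdeg ℤ ℚ = 0 := by
    have : Algebra.IsAlgebraic ℤ ℚ := IsLocalization.isAlgebraic _ (nonZeroDivisors ℤ)
    exact trdeg_eq_zero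
  have t1 : IsScalarTower ℤ A L := IsScalarTower.of_algebraMap_eq' (Subsingleton.elim _ _)
  have t2 : IsScalarTower ℤ ℚ L := IsScalarTower.of_algebraMap_eq' (Subsingleton.elim _ _)
  have h3 := lift_trdeg_add_eq ℤ A L
  have h4 := lift_trdeg_add_eq ℤ ℚ L
  rw [h1] at h3
  rw [h2] at h4
  simp only [Cardinal.lift_id, Cardinal.lift_zero, add_zero, zero_add, Cardinal.lift_uzero] at h3 h4
  rw [h3, ← h4]

theorem exists_dim_int (L : Type u) [Field L] [Algebra A L] [IsFractionRing A L] [CharZero L] :
    ∃ d : ℕ, Algebra.trdeg ℚ L = d ∧ ringKrullDim A = (d + 1 : ℕ) := by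
  obtain ⟨d, h1, h2⟩ := Groth.Agent.Etbc.H214.ZDim.exists_trdeg_charZero A L
  refine ⟨d, h1, le_antisymm ?_ (by exact_mod_cast h2)⟩
  have fA : FaithfulSMul ℤ A := (faithfulSMul_iff_algebraMap_injective _ _).2
    (algebraMap ℤ A).injective_int
  rw [add_comm d 1]
  refine K832.DimSub.dim_le (D := ℤ) 1 d (fun p hp => ?_) ?_
  · have h3 := Ideal.height_le_ringKrullDim_of_ne_top hp.ne_top
    have h4 : ringKrullDim ℤ ≤ 1 := Ring.krullDimLE_iff.1 inferInstance
    exact_mod_cast h3.trans h4
  · rw [trdeg_int A L, h1]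

end CharZero

theorem e3_aux (A : Type u) [CommRing A] [IsDomain A] [CharZero A] [Algebra.FiniteType ℤ A]
    (L' : Type u) [Field L'] [Algebra A L'] [IsFractionRing A L'] [CharZero L'] (r : ℕ)
    (hr : topologicalKrullDim (Spec (CommRingCat.of A)) = r) :
    Ext (L (Spec (CommRingCat.of A))) r 1 True := by
  obtain ⟨d, hd1, hd2⟩ := exists_dim_int A L'
  have hrd : r = d + 1 := by
    have h1 : topologicalKrullDim (PrimeSpectrum A) = r := hr
    rw [PrimeSpectrum.topologicalKrullDim_eq_ringKrullDim, hd2] at h1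
    exact_mod_cast h1.symm
  subst hrd
  have hess : Algebra.EssFiniteType ℚ L' := by
    have h1 : Algebra.EssFiniteType A L' := .of_isLocalization _ (nonZeroDivisors A)
    have t1 : IsScalarTower ℤ A L' := IsScalarTower.of_algebraMap_eq' (Subsingleton.elim _ _)
    have t2 : IsScalarTower ℤ ℚ L' := IsScalarTower.of_algebraMap_eq' (Subsingleton.elim _ _)
    have h2 : Algebra.EssFiniteType ℤ L' := .comp ℤ A L'
    exact .of_comp ℤ ℚ L'
  let K := algebraicClosure ℚ L'
  have hfd : FiniteDimensional ℚ K := K797.Alg.finiteDimensional_closure ℚ L'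
  have hNF : NumberField K := { to_charZero := inferInstance, to_finiteDimensional := hfd }
  obtain ⟨v, hv, hvf, hvs⟩ := K797.Alg.exists_basis ℚ L' d hd1
  let R := 𝓞 K
  have tRKL : IsScalarTower R K L' := inferInstance
  obtain ⟨g, A₂, j, hg, hloc, hFG, hfrac⟩ := K797.Alg.exists_model A L' R
  obtain ⟨h, h0, C, hC, hLW⟩ := LW_of_sepGen.{u} pcb d (R := R) (K := K) (L := L')
    (K797.Alg.hK ℚ L') v hv A₂ hFG hfrac
  letI algAA₂ : Algebra A A₂ := j.toAlgebra
  have hloc' : IsLocalization.Away g A₂ := hloc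
  have hFT₂ := finType_away A A₂ g
  let N₀ : ℕ := Ideal.absNorm (Ideal.span {h})
  have hN₀ : N₀ ≠ 0 := by
    rw [Ne, Ideal.absNorm_eq_zero_iff, Ideal.span_singleton_eq_bot]
    exact h0
  have hdvd : h ∣ (N₀ : R) := Ideal.mem_span_singleton.1 (Ideal.absNorm_mem _)
  have hN₀R : (N₀ : R) ≠ 0 := by exact_mod_cast hN₀
  let g₂ : A₂ := algebraMap R A₂ (N₀ : R)
  have hg₂ : g₂ ≠ 0 := by
    intro e
    have e1 : algebraMap R L' (N₀ : R) = 0 := congrArg Subtype.val e
    rw [map_natCast] at e1
    exact hN₀ (by exact_mod_cast e1)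
  let A₃ := Localization.Away g₂
  have hFT₃ := finType_away A₂ A₃ g₂
  have hdim₂ := dim_away A A₂ g hg (d + 1) hr
  have hdim₃ := dim_away A₂ A₃ g₂ hg₂ (d + 1) hdim₂
  refine ext_of_away A A₂ g hg (d + 1) hr 1 True ?_
  refine ext_of_away A₂ A₃ g₂ hg₂ (d + 1) hdim₂ 1 True ?_
  refine K797.Rel.ext_int K A₃ d hdim₃.le (N₀ : R) hN₀R ?_ C hC fun F _ _ φ hφ => ?_
  · rw [IsScalarTower.algebraMap_apply R A₂ A₃]
    exact IsLocalization.Away.algebraMap_isUnit g₂
  · rw [K797.Alg.N_away (A := A₂) (A' := A₃) (N₀ : R) F φ hφ]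
    refine hLW F φ fun e => hφ ?_
    obtain ⟨c, hc⟩ := hdvd
    rw [hc, map_mul, e, zero_mul]

theorem e3 : E3.{u} := by
  intro A _ _ _ f _ r hr
  have hFT : Algebra.FiniteType ℤ A := finiteType_of_spec f
  have hL0 : CharZero (FractionRing A) :=
    charZero_of_injective_algebraMap (IsFractionRing.injective A (FractionRing A))
  exact e3_aux A (FractionRing A) r hr

theorem e4_aux (A : Type u) [CommRing A] [IsDomain A] (p : ℕ) [Fact p.Prime] [CharP A p]
    [Algebra.FiniteType ℤ A] (L' : Type u) [Field L'] [Algebra A L'] [IsFractionRing A L']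
    [CharP L' p] (r : ℕ) (hr : topologicalKrullDim (Spec (CommRingCat.of A)) = r) :
    Ext (L (Spec (CommRingCat.of A))) r 1 False := by
  let _ : Algebra (ZMod p) A := ZMod.algebra A p
  let _ : Algebra (ZMod p) L' := ZMod.algebra L' p
  have t0 : IsScalarTower (ZMod p) A L' := IsScalarTower.of_algebraMap_eq' (Subsingleton.elim _ _)
  have t1 : IsScalarTower ℤ (ZMod p) A := IsScalarTower.of_algebraMap_eq' (Subsingleton.elim _ _)
  have hFTp : Algebra.FiniteType (ZMod p) A :=
    Algebra.FiniteType.of_restrictScalars_finiteType ℤ (ZMod p) A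
  obtain ⟨d, hd1, hd2, -⟩ := Groth.Agent.CalgC.DimFT.exists_dim (ZMod p) A
  have hrd : r = d := by
    have h1 : topologicalKrullDim (PrimeSpectrum A) = r := hr
    rw [PrimeSpectrum.topologicalKrullDim_eq_ringKrullDim, hd1] at h1
    exact_mod_cast h1.symm
  subst hrd
  have hd3 : Algebra.trdeg (ZMod p) L' = r := by
    have fA : FaithfulSMul (ZMod p) A := (faithfulSMul_iff_algebraMap_injective _ _).2
      (algebraMap (ZMod p) A).injective
    have fL : FaithfulSMul A L' := (faithfulSMul_iff_algebraMap_injective _ _).2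
      (IsFractionRing.injective A L')
    have h1 : Algebra.trdeg A L' = 0 := by
      have : Algebra.IsAlgebraic A L' := IsLocalization.isAlgebraic _ (nonZeroDivisors A)
      exact trdeg_eq_zero
    have h3 := lift_trdeg_add_eq (ZMod p) A L'
    rw [h1, hd2] at h3
    simpa using h3.symm
  have hess : Algebra.EssFiniteType (ZMod p) L' := by
    have h1 : Algebra.EssFiniteType A L' := .of_isLocalization _ (nonZeroDivisors A)
    exact .comp (ZMod p) A L'
  let K := algebraicClosure (ZMod p) L'
  have hfd : FiniteDimensional (ZMod p) K := K797.Alg.finiteDimensional_closure (ZMod p) L'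
  have hfin : Finite K := Module.finite_of_finite (ZMod p)
  have hchar : CharP K p := (algebraMap K L').charP (algebraMap K L').injective p
  obtain ⟨v, hv, hvf, hvs⟩ := K797.Alg.exists_basis (ZMod p) L' r hd3
  obtain ⟨g, A₂, j, hg, hloc, hFG, hfrac⟩ := K797.Alg.exists_model A L' K
  obtain ⟨h, h0, C, hC, hLW⟩ := LW_of_sepGen.{u} pcb r (R := K) (K := K) (L := L')
    (K797.Alg.hK (ZMod p) L') v hv A₂ hFG hfrac
  letI algAA₂ : Algebra A A₂ := j.toAlgebra
  have hloc' : IsLocalization.Away g A₂ := hloc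
  have hFT₂ := finType_away A A₂ g
  have hdim₂ := dim_away A A₂ g hg r hr
  refine ext_of_away A A₂ g hg r hr 1 False ?_
  refine K797.Rel.ext_char p K A₂ r hdim₂.le C hC fun F _ _ φ => ?_
  exact hLW F φ fun e => h0 ((map_eq_zero φ).1 e)

theorem e4 : E4.{u} := by
  intro A _ _ p _ _ f _ r hr
  have hFT : Algebra.FiniteType ℤ A := finiteType_of_spec f
  have hL0 : CharP (FractionRing A) p :=
    charP_of_injective_algebraMap (IsFractionRing.injective A (FractionRing A)) p
  exact e4_aux A p (FractionRing A) r hr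

/-- The general case. -/
theorem main (X : Scheme.{u}) (f : X ⟶ SZ.{u}) [LocallyOfFiniteType f] [QuasiCompact f] (r : ℕ)
    (hr : topologicalKrullDim X = r) :
    ∃ m : ℕ, 1 ≤ m ∧ Ext (LSeries (Zeta.arithCoeff X)) r m False :=
  K797.Assembly.main e1 e2 e3 e4 X f r hr

/-- The irreducible dominating case. -/
theorem main_irr (X : Scheme.{u}) (f : X ⟶ SZ.{u}) [LocallyOfFiniteType f] [QuasiCompact f]
    [IrreducibleSpace X] (r : ℕ) (hr : topologicalKrullDim X = r)
    (hdom : ∃ x : X, closure ({f x} : Set SZ.{u}) = Set.univ) :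
    Ext (LSeries (Zeta.arithCoeff X)) r 1 True :=
  K797.Assembly.main_irr e1 e2 e3 e4 X f r hr hdom

end K797.Final
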