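import Groth.Agent.EGA43.K122.DimJac
import Groth.Agent.AlgSp.K624.Caten
import Groth.Agent.Etbc.H208.PidCat
import Groth.Agent.CycB.SetupDVR
import Groth.Agent.S4714
import Groth.Agent.Etbc.H214.ZDim
import Groth.Agent.TopDim.K284.Basic

/-!
# Dimension of schemes of finite type over `ℤ`
-/

set_option autoImplicit false
universe u
open CategoryTheory AlgebraicGeometry TopologicalSpace Topology
open Groth.Agent.CycB Groth.Agent.CycB.RelDim

namespace K797.Dim

/-- The base. -/
noncomputable abbrev SZ : Scheme.{u} := Spec (CommRingCat.of (ULift.{u} ℤ))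

instance isDomain_Z : IsDomain (ULift.{u} ℤ) := (ULift.ringEquiv (R := ℤ)).toMulEquiv.isDomain _

instance isPrincipal_Z : IsPrincipalIdealRing (ULift.{u} ℤ) :=
  IsPrincipalIdealRing.of_surjective (ULift.ringEquiv (R := ℤ)).symm.toRingHom
    (ULift.ringEquiv (R := ℤ)).symm.surjective

instance isNoeth_Z : IsNoetherianRing (ULift.{u} ℤ) := inferInstance

instance isJacobson_Z : IsJacobsonRing (ULift.{u} ℤ) :=
  (isJacobsonRing_iso (ULift.ringEquiv (R := ℤ)).symm).1 Groth.Agent.Etbc.H214.ZDim.isJacobsonRing_int

theorem univCat (s : SZ.{u}) : CAlg.IsUniversallyCatenary (SZ.{u}.presheaf.stalk s) :=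
  SetupDVR.isUniversallyCatenary_stalk_spec
    (Groth.Agent.Etbc.H208.PidCat.isUniversallyCatenary_pid (ULift.{u} ℤ)) s

instance : IsLocallyNoetherian SZ.{u} := inferInstance
instance : JacobsonSpace SZ.{u} := inferInstance

open Classical in
/-- The dimension of the closure of a point of `Spec ℤ`. -/
noncomputable def cZ (t : SZ.{u}) : ℕ := if IsClosed ({t} : Set SZ.{u}) then 0 else 1

theorem eq_of_specializes {T : Type*} [TopologicalSpace T] [T0Space T] {t s : T}
    (ht : IsClosed ({t} : Set T)) (h : t ⤳ s) : s = t := by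
  have := specializes_iff_mem_closure.mp h
  rwa [ht.closure_eq] at this

theorem hcZ (t s : SZ.{u}) (h : t ⤳ s) (hs : IsClosed ({s} : Set SZ.{u})) :
    ringKrullDim (Cyc.LocQuot s t h) = cZ t := by
  unfold cZ
  split_ifs with ht
  · obtain rfl := eq_of_specializes ht h
    rw [K624.Caten.locQuot_refl]
    rfl
  · have hne : t ≠ s := fun e => ht (e ▸ hs)
    have h0 : t.asIdeal = ⊥ := by
      by_contra hb
      have hm : t.asIdeal.IsMaximal := t.2.isMaximal hb
      exact ht ((PrimeSpectrum.isClosed_singleton_iff_isMaximal t).2 hm)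
    rw [K624.Caten.locQuot_eq_add_one univCat (specializes_refl s) h h hne ?_,
      K624.Caten.locQuot_refl, zero_add]
    · rfl
    · intro z htz hzs
      by_cases hz : z.asIdeal = ⊥
      · exact Or.inl (PrimeSpectrum.ext (hz.trans h0.symm))
      · right
        have hm : z.asIdeal.IsMaximal := z.2.isMaximal hz
        exact (eq_of_specializes ((PrimeSpectrum.isClosed_singleton_iff_isMaximal z).2 hm)
          hzs).symm

variable {X : Scheme.{u}} (p : X ⟶ SZ.{u}) [LocallyOfFiniteType p]

include p in
/-- The dimension of the closure of a point. -/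
theorem exists_delta : ∃ δ : X → ℕ, ∀ (U : X.Opens) (x : X), x ∈ U →
    topologicalKrullDim ↥((U : Set X) ∩ closure ({x} : Set X)) = δ x := by
  have hfin : ∀ x : X, ∃ n : ℕ, rtd p x = n := fun x => Cardinal.lt_aleph0.1 (rtd_lt_aleph0 p x)
  choose n hn using hfin
  exact ⟨fun x => cZ (p x) + n x, fun U x hx =>
    K122.DimJac.dim_aux univCat p cZ hcZ n hn U x hx⟩

include p in
/-- Nonempty open subschemes of an irreducible scheme locally of finite type over `ℤ` have full
dimension. -/
theorem dim_open [IrreducibleSpace X] (U : X.Opens) (hU : (U : Set X).Nonempty) :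
    topologicalKrullDim U = topologicalKrullDim X := by
  obtain ⟨δ, hδ⟩ := exists_delta p
  have hgen : genericPoint X ∈ U := by
    obtain ⟨x, hx⟩ := hU
    exact (genericPoint_specializes x).mem_open U.isOpen hx
  have h1 := hδ U (genericPoint X) hgen
  have h2 := hδ ⊤ (genericPoint X) trivial
  rw [genericPoint_closure, Set.inter_univ] at h1 h2
  refine h1.trans (h2.symm.trans ?_)
  exact IsHomeomorph.topologicalKrullDim_eq _ (Homeomorph.Set.univ X).isHomeomorph

include p in
/-- A scheme of finite type over `ℤ` of dimension `r` has an irreducible affine open subscheme of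
dimension `r`. -/
theorem exists_top_open [QuasiCompact p] (r : ℕ) (hr : topologicalKrullDim X = r) :
    ∃ V : X.Opens, IsAffineOpen V ∧ IrreducibleSpace V ∧ topologicalKrullDim V = r := by
  have hLN : IsLocallyNoetherian X := LocallyOfFiniteType.isLocallyNoetherian p
  have hC : CompactSpace X := (quasiCompact_iff_compactSpace p).mp inferInstance
  have hN : IsNoetherian X := {}
  have hne : Nonempty (irreducibleComponents X) := by
    by_contra h
    rw [not_nonempty_iff, Set.isEmpty_coe_sort] at h
    rw [K284.TopDim.dim_eq_iSup_irreducibleComponents, h] at hr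
    simp at hr
  have hfin : Finite (irreducibleComponents X) :=
    TopologicalSpace.NoetherianSpace.finite_irreducibleComponents.to_subtype
  obtain ⟨C, hCmax⟩ := Finite.exists_max
    (fun Y : irreducibleComponents X => topologicalKrullDim (Y : Set X))
  have hCr : topologicalKrullDim (C : Set X) = r := by
    rw [← hr]
    apply le_antisymm (topologicalKrullDim_subspace_le X _)
    rw [K284.TopDim.dim_eq_iSup_irreducibleComponents]
    exact iSup₂_le fun Y hY => hCmax ⟨Y, hY⟩
  obtain ⟨o, ho, ⟨x, hx⟩, hoC⟩ :=
    NoetherianSpace.exists_isOpen_nonempty_subset_irreducibleComponent C.1 C.2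
  obtain ⟨V, hV, hxV, hVo⟩ := X.isBasis_affineOpens.exists_subset_of_mem_open hx ho
  obtain ⟨V, hV, rfl⟩ := hV
  refine ⟨V, hV, ?_, ?_⟩
  · have : IsIrreducible (V : Set X) :=
      ⟨⟨x, hxV⟩, C.2.1.isPreirreducible.open_subset V.isOpen (hVo.trans hoC)⟩
    exact Subtype.irreducibleSpace this
  · obtain ⟨ξ, hξ⟩ := QuasiSober.sober C.2.1 (isClosed_of_mem_irreducibleComponents _ C.2)
    have hgen : ξ ∈ V := by
      have : ξ ⤳ x := hξ.specializes (hoC hx)
      exact this.mem_open V.isOpen hxV
    obtain ⟨δ, hδ⟩ := exists_delta p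
    have h1 := hδ V ξ hgen
    have h2 := hδ ⊤ ξ trivial
    rw [hξ.def] at h1 h2
    rw [Set.inter_eq_left.2 (hVo.trans hoC)] at h1
    have h3 : ((⊤ : X.Opens) : Set X) ∩ (C : Set X) = C := by simp
    rw [h3, hCr] at h2
    exact h1.trans h2.symm

end K797.Dim
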