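import Groth.Agent.Zeta.K797.Mer
import Groth.Agent.Zeta.K797.Dim
import Groth.Agent.Ega1.ReducedSub
import Groth.Prelude.Def_W4c1zetahwZeta
import Mathlib.AlgebraicGeometry.FunctionField

/-!
# The assembly: meromorphic continuation of the zeta function of an arithmetic scheme
-/

set_option autoImplicit false
universe u
open CategoryTheory AlgebraicGeometry TopologicalSpace Topology

namespace K797.Assembly

open K797.Dim K797.Mer

/-- The zeta function of an arithmetic scheme (as a Dirichlet series). -/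
noncomputable abbrev L (X : Scheme.{u}) (s : ℂ) : ℂ := LSeries (Zeta.arithCoeff X) s

/-- Holomorphy of `log L_X` on `Re s > dim X`. -/
def E1 : Prop := ∀ (X : Scheme.{u}) (f : X ⟶ SZ.{u}) [LocallyOfFiniteType f] [QuasiCompact f] (d : ℕ),
  topologicalKrullDim X ≤ d → ∃ H : ℂ → ℂ, (∀ s : ℂ, (d : ℝ) < s.re → AnalyticAt ℂ H s) ∧
    ∀ s : ℂ, (d : ℝ) < s.re → L X s = Complex.exp (H s)

/-- Multiplicativity. -/
def E2 : Prop := ∀ (X Z : Scheme.{u}) (f : X ⟶ SZ.{u}) [LocallyOfFiniteType f] [QuasiCompact f] (d : ℕ)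
  (U : X.Opens) (i : Z ⟶ X) [IsClosedImmersion i],
  Set.range i = (U : Set X)ᶜ → topologicalKrullDim X ≤ d →
    ∀ s : ℂ, (d : ℝ) < s.re → L X s = L U s * L Z s

/-- Integral affine schemes dominating `ℤ`. -/
def E3 : Prop := ∀ (A : Type u) [CommRing A] [IsDomain A] [CharZero A]
  (f : Spec (CommRingCat.of A) ⟶ SZ.{u}) [LocallyOfFiniteType f] (r : ℕ),
  topologicalKrullDim (Spec (CommRingCat.of A)) = r → Ext (L (Spec (CommRingCat.of A))) r 1 True

/-- Integral affine schemes over `𝔽_p`. -/
def E4 : Prop := ∀ (A : Type u) [CommRing A] [IsDomain A] (p : ℕ) [Fact p.Prime] [CharP A p]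
  (f : Spec (CommRingCat.of A) ⟶ SZ.{u}) [LocallyOfFiniteType f] (r : ℕ),
  topologicalKrullDim (Spec (CommRingCat.of A)) = r → Ext (L (Spec (CommRingCat.of A))) r 1 False

/-- The zeta function of the empty scheme is `1`. -/
theorem L_empty (X : Scheme.{u}) [IsEmpty X] (s : ℂ) : L X s = 1 := by
  have h : Zeta.arithCoeff X = LSeries.delta := by
    funext n
    unfold Zeta.arithCoeff Zeta.cycleNormCount LSeries.delta
    by_cases hn : n = 1
    · rw [if_pos hn, hn]
      have : Unique {α : X →₀ ℕ // (∀ x ∈ α.support, IsClosed ({x} : Set X)) ∧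
          (α.prod fun x m => Nat.card (X.residueField x) ^ m) = 1} :=
        { default := ⟨0, by simp, by simp⟩
          uniq := fun a => Subtype.ext (Finsupp.ext fun x => isEmptyElim x) }
      rw [Nat.card_unique, Nat.cast_one]
    · rw [if_neg hn]
      have : IsEmpty {α : X →₀ ℕ // (∀ x ∈ α.support, IsClosed ({x} : Set X)) ∧
          (α.prod fun x m => Nat.card (X.residueField x) ^ m) = n} := by
        refine ⟨fun a => hn ?_⟩
        have h0 : a.1 = 0 := Finsupp.ext fun x => isEmptyElim x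
        have := a.2.2
        rw [h0, Finsupp.prod_zero_index] at this
        exact this.symm
      rw [Nat.card_of_isEmpty, Nat.cast_zero]
  change LSeries (Zeta.arithCoeff X) s = 1
  rw [h, LSeries_delta]
  rfl

theorem le_of_lt_succ {x : WithBot ℕ∞} {r : ℕ} (h : x < ((r + 1 : ℕ) : WithBot ℕ∞)) :
    x ≤ (r : WithBot ℕ∞) := by
  induction x with
  | bot => exact bot_le
  | coe a =>
    have h1 : a < ((r + 1 : ℕ) : ℕ∞) := by exact_mod_cast h
    have h2 : a ≤ (r : ℕ∞) := by
      rw [Nat.cast_add, Nat.cast_one] at h1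
      exact (ENat.lt_add_one_iff (ENat.natCast_ne_top r)).1 h1
    exact_mod_cast h2

theorem lt_of_add_one_le {x : WithBot ℕ∞} {r : ℕ} (h : x + 1 ≤ (r : WithBot ℕ∞)) :
    x < (r : WithBot ℕ∞) := by
  induction x with
  | bot => exact WithBot.bot_lt_coe _
  | coe a =>
    have h1 : a + 1 ≤ (r : ℕ∞) := by exact_mod_cast h
    have h2 : a < (r : ℕ∞) := (ENat.add_one_le_iff' (ENat.natCast_ne_top r)).1 h1
    exact_mod_cast h2

theorem isEmpty_of_dim_lt {T : Type*} [TopologicalSpace T] (h : topologicalKrullDim T < 0) :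
    IsEmpty T := by
  by_contra hne
  rw [not_isEmpty_iff] at hne
  obtain ⟨x⟩ := hne
  have hne' : Nonempty (IrreducibleCloseds T) :=
    ⟨⟨closure {x}, isIrreducible_singleton.closure, isClosed_closure⟩⟩
  exact absurd (Order.krullDim_nonneg (α := IrreducibleCloseds T)) (not_le.mpr h)

/-- Lower-dimensional pieces do not matter. -/
theorem ext_of_lt (h1 : E1.{u}) (X : Scheme.{u}) (f : X ⟶ SZ.{u}) [LocallyOfFiniteType f]
    [QuasiCompact f] (r : ℕ) (hr : topologicalKrullDim X < r) (P : Prop) : Ext (L X) r 0 P := by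
  rcases r with _ | d
  · have := isEmpty_of_dim_lt hr
    exact Ext.exp (H := fun _ => 0) one_pos (fun s _ => analyticAt_const) fun s _ => by
      rw [L_empty, Complex.exp_zero]
  · have hd : topologicalKrullDim X ≤ d := le_of_lt_succ hr
    obtain ⟨H, hH, hL⟩ := h1 X f d hd
    refine Ext.exp (H := H) one_pos (fun s hs => hH s ?_) fun s hs => hL s ?_
    · push_cast at hs; linarith
    · push_cast at hs; linarith

/-- The reduced induced closed subscheme on a closed subset. -/
theorem exists_closed (X : Scheme.{u}) (C : Set X) (hC : IsClosed C) :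
    ∃ (Z : Scheme.{u}) (i : Z ⟶ X), IsClosedImmersion i ∧ IsReduced Z ∧ Set.range i = C :=
  ⟨_, (Scheme.IdealSheafData.vanishingIdeal ⟨C, hC⟩).subschemeι, inferInstance,
    Groth.Agent.Ega1.ReducedSub.isReduced_subscheme_vanishingIdeal _, by
      rw [Scheme.IdealSheafData.range_subschemeι, Scheme.IdealSheafData.coe_support_vanishingIdeal]
      rfl⟩

/-- The dimension of a closed subscheme is the dimension of its image. -/
theorem dim_eq_range {X Z : Scheme.{u}} (i : Z ⟶ X) [IsClosedImmersion i] :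
    topologicalKrullDim Z = topologicalKrullDim (Set.range i) :=
  IsHomeomorph.topologicalKrullDim_eq _
    i.isClosedEmbedding.isEmbedding.toHomeomorph.isHomeomorph

theorem charZero_of_dominant (A : Type u) [CommRing A] [IsDomain A]
    (g : Spec (CommRingCat.of A) ⟶ SZ.{u}) (y : Spec (CommRingCat.of A))
    (hy : closure ({g y} : Set SZ.{u}) = Set.univ) : CharZero A := by
  refine charZero_of_inj_zero fun n hn => ?_
  let b : SZ.{u} := ⟨⊥, Ideal.isPrime_bot⟩
  have hb : g y ⤳ b := by
    rw [specializes_iff_mem_closure, hy]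
    trivial
  have hle : (g y).asIdeal ≤ b.asIdeal := (PrimeSpectrum.le_iff_specializes _ _).2 hb
  have hmem : ((n : ULift.{u} ℤ)) ∈ (g y).asIdeal := by
    obtain ⟨ψ, rfl⟩ : ∃ ψ : CommRingCat.of (ULift.{u} ℤ) ⟶ CommRingCat.of A, Spec.map ψ = g :=
      ⟨Spec.preimage g, Spec.map_preimage g⟩
    change ψ.hom (n : ULift.{u} ℤ) ∈ y.asIdeal
    rw [map_natCast, show ((n : ℕ) : ↑(CommRingCat.of A)) = 0 from hn]
    exact zero_mem _
  have h0 : ((n : ULift.{u} ℤ)) = 0 := by
    have := hle hmem
    exact (Ideal.mem_bot).1 this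
  have h1 := congrArg ULift.down h0
  simpa using h1

/-- Irreducible affine schemes. -/
theorem ext_irr (h2 : E2.{u}) (h3 : E3.{u}) (h4 : E4.{u}) (X : Scheme.{u}) (f : X ⟶ SZ.{u})
    [LocallyOfFiniteType f] [QuasiCompact f] [IrreducibleSpace X] [IsAffine X] (r : ℕ)
    (hr : topologicalKrullDim X = r) :
    Ext (L X) r 1 False ∧ ((∃ x : X, closure ({f x} : Set SZ.{u}) = Set.univ) →
      Ext (L X) r 1 True) := by
  obtain ⟨Z, i, hi, hZ, hrange⟩ := exists_closed X Set.univ isClosed_univ
  have hdimZ : topologicalKrullDim Z = r := by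
    rw [dim_eq_range i, hrange, ← hr]
    exact IsHomeomorph.topologicalKrullDim_eq _ (Homeomorph.Set.univ X).isHomeomorph
  have hirr : IrreducibleSpace Z := by
    have hs : Function.Surjective i := Set.range_eq_univ.1 hrange
    have e : Z ≃ₜ X := i.isClosedEmbedding.isEmbedding.toHomeomorphOfSurjective hs
    exact e.symm.surjective.irreducibleSpace e.symm.continuous
  have hint : IsIntegral Z := isIntegral_of_irreducibleSpace_of_isReduced Z
  have haff : IsAffine Z := isAffine_of_isAffineHom i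
  let A : Type u := Γ(Z, ⊤)
  let j : Spec (CommRingCat.of A) ⟶ X := Z.isoSpec.inv ≫ i
  have hj : IsClosedImmersion j := inferInstance
  have hjr : Set.range j = ((⊥ : X.Opens) : Set X)ᶜ := by
    rw [Scheme.Hom.comp_base, TopCat.coe_comp, Set.range_comp, Set.range_eq_univ.2
      (Scheme.Hom.surjective Z.isoSpec.inv), Set.image_univ, hrange]
    simp
  have hL : ∀ s : ℂ, (r : ℝ) < s.re → L X s = L (Spec (CommRingCat.of A)) s := by
    intro s hs
    rw [h2 X _ f r ⊥ j hjr hr.le s hs]
    have : IsEmpty ((⊥ : X.Opens) : Scheme.{u}) := ⟨fun x => x.2.elim⟩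
    rw [L_empty, one_mul]
  have hdim : topologicalKrullDim (Spec (CommRingCat.of A)) = r := by
    rw [← hdimZ]
    exact IsHomeomorph.topologicalKrullDim_eq _ Z.isoSpec.inv.homeomorph.isHomeomorph
  refine ⟨Ext.congr ?_ hL, fun ⟨x, hx⟩ => Ext.congr ?_ hL⟩
  · by_cases hc : CharZero A
    · exact (h3 A (j ≫ f) r hdim).weaken
    · obtain ⟨p, hp⟩ := CharP.exists A
      rcases CharP.char_is_prime_or_zero A p with hp' | rfl
      · have : Fact p.Prime := ⟨hp'⟩
        exact h4 A p (j ≫ f) r hdim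
      · exact absurd (CharP.charP_to_charZero A) hc
  · obtain ⟨y, rfl⟩ : x ∈ Set.range j := by rw [hjr]; simp
    have : CharZero A := charZero_of_dominant A (j ≫ f) y (by
      rw [Scheme.Hom.comp_apply]
      exact hx)
    exact h3 A (j ≫ f) r hdim

/-- The irreducible dominating case. -/
theorem main_irr (h1 : E1.{u}) (h2 : E2.{u}) (h3 : E3.{u}) (h4 : E4.{u}) (X : Scheme.{u})
    (f : X ⟶ SZ.{u}) [LocallyOfFiniteType f] [QuasiCompact f] [IrreducibleSpace X] (r : ℕ)
    (hr : topologicalKrullDim X = r)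
    (hdom : ∃ x : X, closure ({f x} : Set SZ.{u}) = Set.univ) : Ext (L X) r 1 True := by
  obtain ⟨V, hV, hxV⟩ : ∃ V : X.Opens, IsAffineOpen V ∧ genericPoint X ∈ V := by
    obtain ⟨V, hV, hxV, -⟩ := X.isBasis_affineOpens.exists_subset_of_mem_open
      (Set.mem_univ (genericPoint X)) isOpen_univ
    obtain ⟨V, hV, rfl⟩ := hV
    exact ⟨V, hV, hxV⟩
  have hne : (V : Set X).Nonempty := ⟨_, hxV⟩
  have hVaff : IsAffine V := hV
  have hVirr : IrreducibleSpace V := Subtype.irreducibleSpace
    ⟨hne, (PreirreducibleSpace.isPreirreducible_univ (X := X)).open_subset V.isOpen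
      (Set.subset_univ _)⟩
  have hVdim : topologicalKrullDim V = r := (dim_open f V hne).trans hr
  have hVqc : QuasiCompact (V.ι ≫ f) := inferInstance
  obtain ⟨Z, i, hi, hZ, hrange⟩ := exists_closed X (V : Set X)ᶜ V.isOpen.isClosed_compl
  have hZdim : topologicalKrullDim Z < r := by
    have h5 := Groth.Agent.S4714.dim_add_one_le (V : Set X)ᶜ V.isOpen.isClosed_compl (by
      intro W hW hWV
      have : W = Set.univ := by
        have h := irreducibleComponents_eq_singleton (X := X)
        rw [h] at hW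
        exact hW
      rw [this] at hWV
      obtain ⟨y, hy⟩ := hne
      exact hWV (Set.mem_univ y) hy)
    rw [dim_eq_range i, hrange]
    rw [hr] at h5
    exact lt_of_add_one_le h5
  have := (ext_irr h2 h3 h4 V (V.ι ≫ f) r hVdim).2 ⟨⟨genericPoint X, hxV⟩, by
    obtain ⟨x, hx⟩ := hdom
    rw [Scheme.Hom.comp_apply]
    change closure ({f (genericPoint X)} : Set SZ.{u}) = Set.univ
    rw [← Set.univ_subset_iff, ← hx]
    refine closure_minimal ?_ isClosed_closure
    rw [Set.singleton_subset_iff, ← specializes_iff_mem_closure]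
    exact (genericPoint_specializes x).map f.continuous⟩
  exact (this.mul (ext_of_lt h1 Z (i ≫ f) r hZdim True)
    fun s hs => h2 X Z f r V i hrange hr.le s hs)

theorem main_aux (h1 : E1.{u}) (h2 : E2.{u}) (h3 : E3.{u}) (h4 : E4.{u}) {X : Scheme.{u}}
    (f : X ⟶ SZ.{u}) [LocallyOfFiniteType f] [QuasiCompact f] (T : Closeds X) :
    ∀ (Z : Scheme.{u}) (i : Z ⟶ X) [IsClosedImmersion i], Set.range i = T → ∀ r : ℕ,
      topologicalKrullDim Z ≤ r →
        ∃ m : ℕ, Ext (L Z) r m False ∧ (topologicalKrullDim Z = r → 1 ≤ m) := by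
  have hLN : IsLocallyNoetherian X := LocallyOfFiniteType.isLocallyNoetherian f
  have hC : CompactSpace X := (quasiCompact_iff_compactSpace f).mp inferInstance
  have hN : IsNoetherian X := {}
  induction T using WellFoundedLT.induction with
  | _ T ih =>
  intro Z i hi hT r hr
  rcases hr.lt_or_eq with h | h
  · exact ⟨0, ext_of_lt h1 Z (i ≫ f) r h False, fun h' => absurd h' h.ne⟩
  · obtain ⟨V, hV, hVirr, hVdim⟩ := exists_top_open (i ≫ f) r h
    have hVaff : IsAffine V := hV
    have hZLN : IsLocallyNoetherian Z := LocallyOfFiniteType.isLocallyNoetherian (i ≫ f)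
    have hZC : CompactSpace Z := (quasiCompact_iff_compactSpace (i ≫ f)).mp inferInstance
    have hZN : IsNoetherian Z := {}
    have hVqc : QuasiCompact (V.ι ≫ i ≫ f) := inferInstance
    obtain ⟨W, j, hj, -, hrange⟩ := exists_closed Z (V : Set Z)ᶜ V.isOpen.isClosed_compl
    let T' : Closeds X := ⟨Set.range (j ≫ i), (j ≫ i).isClosedEmbedding.isClosed_range⟩
    have hlt : T' < T := by
      obtain ⟨⟨v, hv⟩⟩ := hVirr.toNonempty
      refine lt_of_le_of_ne ?_ ?_
      · change Set.range (j ≫ i) ⊆ (T : Set X)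
        rw [← hT, Scheme.Hom.comp_base, TopCat.coe_comp]
        exact Set.range_comp_subset_range _ _
      · intro e
        have h5 : i v ∈ (T' : Set X) := by
          rw [e, ← hT]
          exact ⟨v, rfl⟩
        obtain ⟨w, hw⟩ := h5
        rw [Scheme.Hom.comp_apply] at hw
        have h6 : j w = v := i.isClosedEmbedding.injective hw
        have h7 : v ∈ (V : Set Z)ᶜ := by
          rw [← hrange]
          exact ⟨w, h6⟩
        exact h7 hv
    have hWdim : topologicalKrullDim W ≤ r :=
      (j.isClosedEmbedding.isInducing.topologicalKrullDim_le).trans hr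
    obtain ⟨m, hm, -⟩ := ih T' hlt W (j ≫ i) rfl r hWdim
    refine ⟨1 + m, ?_, fun _ => by omega⟩
    exact ((ext_irr h2 h3 h4 V (V.ι ≫ i ≫ f) r hVdim).1.mul hm
      fun s hs => h2 Z W (i ≫ f) r V j hrange hr s hs)

/-- The general case. -/
theorem main (h1 : E1.{u}) (h2 : E2.{u}) (h3 : E3.{u}) (h4 : E4.{u}) (X : Scheme.{u})
    (f : X ⟶ SZ.{u}) [LocallyOfFiniteType f] [QuasiCompact f] (r : ℕ)
    (hr : topologicalKrullDim X = r) : ∃ m : ℕ, 1 ≤ m ∧ Ext (L X) r m False := by
  obtain ⟨m, h, h'⟩ := main_aux h1 h2 h3 h4 f ⊤ X (𝟙 X) (by simp) r hr.le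
  exact ⟨m, h' hr, h⟩

end K797.Assembly
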