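import Groth.Agent.Zeta.K797.Comp

/-!
# The zeta functions of the bases: rings of integers and finite fields
-/

set_option autoImplicit false
universe u

noncomputable section

open Filter Topology CategoryTheory AlgebraicGeometry NumberField
open K468.EP K468.Arith K468.Cnt

namespace K797.Base

section HomBound

/-- A finite ring has boundedly many homomorphisms to fields. -/
theorem exists_hom_bound (R : Type*) [CommRing R] [Module.Finite ℤ R] :
    ∃ B : ℕ, ∀ (F : Type u) [Field F] [Finite F], Nat.card (R →+* F) ≤ B := by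
  obtain ⟨d, b, hb⟩ := Module.Finite.exists_fin (R := ℤ) (M := R)
  refine ⟨d, fun F _ _ => ?_⟩
  have hli : LinearIndependent F (fun (φ : R →+* F) (i : Fin d) => φ (b i)) := by
    have h1 : LinearIndependent F (M := R → F) (fun φ : R →+* F => (φ : R → F)) := by
      have h2 := linearIndependent_monoidHom R F
      exact h2.comp (fun φ : R →+* F => (φ : R →* F)) fun φ ψ h => by
        ext x
        exact DFunLike.congr_fun h x
    rw [linearIndependent_iff'] at h1 ⊢
    intro s g hg φ hφ
    refine h1 s g ?_ φ hφ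
    funext x
    rw [Finset.sum_apply, Pi.zero_apply]
    have hx : x ∈ Submodule.span ℤ (Set.range b) := by rw [hb]; trivial
    induction hx using Submodule.span_induction with
    | mem x hx =>
      obtain ⟨i, rfl⟩ := hx
      have := congrFun hg i
      simpa using this
    | zero => simp
    | add x y _ _ hx hy =>
      simp only [Pi.smul_apply, smul_eq_mul, map_add, mul_add, Finset.sum_add_distrib] at hx hy ⊢
      rw [hx, hy, add_zero]
    | smul a x _ hx =>
      simp only [Pi.smul_apply, smul_eq_mul, map_zsmul, mul_smul_comm] at hx ⊢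
      rw [← Finset.smul_sum, hx, smul_zero]
  have hfin : Finite (R →+* F) := hli.finite
  have := Fintype.ofFinite (R →+* F)
  rw [Nat.card_eq_fintype_card]
  simpa using hli.fintype_card_le_finrank

end HomBound

section Dedekind

variable (K : Type u) [Field K] [NumberField K]

theorem prime_of_max (𝔪 : MaximalSpectrum (𝓞 K)) : Prime 𝔪.asIdeal :=
  Ideal.prime_of_isPrime (Ring.ne_bot_of_isMaximal_of_not_isField 𝔪.isMaximal
    (RingOfIntegers.not_isField K)) 𝔪.isMaximal.isPrime

theorem nm_eq (𝔪 : MaximalSpectrum (𝓞 K)) : nm (𝓞 K) 𝔪 = Ideal.absNorm 𝔪.asIdeal := rfl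

/-- Ideals as products. -/
def prd (s : Multiset (MaximalSpectrum (𝓞 K))) : Ideal (𝓞 K) :=
  (s.map MaximalSpectrum.asIdeal).prod

theorem prd_injective : Function.Injective (prd K) := by
  intro s t h
  have h1 : ∀ s : Multiset (MaximalSpectrum (𝓞 K)),
      UniqueFactorizationMonoid.normalizedFactors (prd K s) = s.map MaximalSpectrum.asIdeal := by
    intro s
    refine UniqueFactorizationMonoid.normalizedFactors_prod_of_prime fun p hp => ?_
    obtain ⟨𝔪, -, rfl⟩ := Multiset.mem_map.1 hp
    exact prime_of_max K 𝔪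
  have h2 := congrArg UniqueFactorizationMonoid.normalizedFactors h
  rw [h1, h1] at h2
  exact Multiset.map_injective (fun a b hab => MaximalSpectrum.ext hab) h2

theorem prd_surjective (I : Ideal (𝓞 K)) (hI : I ≠ ⊥) : ∃ s, prd K s = I := by
  have hp : ∀ P ∈ UniqueFactorizationMonoid.normalizedFactors I, P.IsMaximal := fun P hP => by
    have h1 := UniqueFactorizationMonoid.prime_of_normalized_factor P hP
    have h2 : P.IsPrime := Ideal.isPrime_of_prime h1
    exact h2.isMaximal h1.ne_zero
  refine ⟨(UniqueFactorizationMonoid.normalizedFactors I).pmap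
    (fun P hP => (⟨P, hP⟩ : MaximalSpectrum (𝓞 K))) hp, ?_⟩
  rw [prd, Multiset.map_pmap]
  simp only [Multiset.pmap_eq_map, Multiset.map_id']
  exact associated_iff_eq.1 (UniqueFactorizationMonoid.prod_normalizedFactors hI)

theorem absNorm_prd (α : MaximalSpectrum (𝓞 K) →₀ ℕ) :
    Ideal.absNorm (prd K (Finsupp.toMultiset α)) = mon (nm (𝓞 K)) α := by
  have h1 : prd K (Finsupp.toMultiset α) = mon MaximalSpectrum.asIdeal α := by
    rw [prd, Finsupp.toMultiset_map, Finsupp.prod_toMultiset, mon]
    exact Finsupp.prod_mapDomain_index (fun _ => pow_zero _) (fun _ _ _ => pow_add _ _ _)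
  rw [h1, map_mon]
  rfl

theorem aN_eq {n : ℕ} (hn : n ≠ 0) :
    aN (nm (𝓞 K)) n = Nat.card {I : Ideal (𝓞 K) // Ideal.absNorm I = n} := by
  refine Nat.card_congr (Equiv.ofBijective
    (fun α => ⟨prd K (Finsupp.toMultiset α.1), (absNorm_prd K α.1).trans α.2⟩) ⟨?_, ?_⟩)
  · intro α β h
    have h1 := prd_injective K (congrArg Subtype.val h)
    classical
    have h2 := congrArg Multiset.toFinsupp h1
    rw [Finsupp.toMultiset_toFinsupp, Finsupp.toMultiset_toFinsupp] at h2
    exact Subtype.ext h2
  · rintro ⟨I, hI⟩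
    have hI0 : I ≠ ⊥ := by
      rintro rfl
      rw [Ideal.absNorm_bot] at hI
      exact hn hI.symm
    obtain ⟨s, hs⟩ := prd_surjective K I hI0
    classical
    refine ⟨⟨Multiset.toFinsupp s, ?_⟩, ?_⟩
    · rw [← absNorm_prd, Multiset.toFinsupp_toMultiset, hs, hI]
    · apply Subtype.ext
      change prd K (Finsupp.toMultiset (Multiset.toFinsupp s)) = I
      rw [Multiset.toFinsupp_toMultiset, hs]

theorem aN_nX_spec (A : Type u) [CommRing A] (n : ℕ) :
    aN (nX (Spec (CommRingCat.of A))) n = aN (nm A) n := by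
  refine Nat.card_congr ?_
  refine ((Finsupp.domCongr (specEquiv A)).toEquiv.subtypeEquiv fun α => ?_).symm
  have h1 : mon (nX (Spec (CommRingCat.of A))) ((Finsupp.domCongr (specEquiv A)) α) =
      mon (nm A) α := by
    rw [mon, Finsupp.domCongr_apply, Finsupp.equivMapDomain_eq_mapDomain,
      Finsupp.prod_mapDomain_index (fun _ => pow_zero _) (fun _ _ _ => pow_add _ _ _)]
    simp only [nX_specEquiv]
    rfl
  change mon (nm A) α = n ↔ _ = n
  rw [← h1]
  rfl

/-- The zeta function of the ring of integers is the Dedekind zeta function. -/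
theorem LSeries_ringOfIntegers (s : ℂ) :
    LSeries (Zeta.arithCoeff (Spec (CommRingCat.of (𝓞 K)))) s = dedekindZeta K s := by
  rw [arithCoeff_eq, dedekindZeta]
  refine LSeries_congr (fun {n} hn => ?_) s
  rw [aN_nX_spec, aN_eq K hn]

end Dedekind

section Finite

/-- The zeta function of a finite field. -/
theorem LSeries_finite (k : Type u) [Field k] [Finite k] {s : ℂ} (hs : 0 < s.re) :
    LSeries (Zeta.arithCoeff (Spec (CommRingCat.of k))) s =
      (1 - (Nat.card k : ℂ) ^ (-s))⁻¹ := by
  have huniq : Unique (MaximalSpectrum k) :=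
    { default := ⟨⊥, Ideal.bot_isMaximal⟩
      uniq := fun a => MaximalSpectrum.ext (Ideal.eq_bot_of_prime a.asIdeal (h := a.isMaximal.isPrime)) }
  have hN : ∀ x, nm k x = Nat.card k := fun x => by
    have hx : x.asIdeal = ⊥ := Ideal.eq_bot_of_prime x.asIdeal (h := x.isMaximal.isPrime)
    rw [nm, hx]
    exact Nat.card_congr (RingEquiv.quotientBot k).toEquiv
  have hq : 2 ≤ Nat.card k := Finite.one_lt_card
  rw [arithCoeff_eq]
  have e : (fun n => (aN (nX (Spec (CommRingCat.of k))) n : ℂ)) = fun n => (aN (nm k) n : ℂ) := by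
    funext n
    rw [aN_nX_spec]
  rw [e, (LSeries_aN (N := nm k) (fun x => (hN x).symm ▸ hq) hs (by
    exact (hasSum_unique _).summable) le_rfl).2, (hasSum_unique _).tsum_eq, hN]
  have h1 : (1 : ℂ) - (Nat.card k : ℂ) ^ (-s) ≠ 0 := by
    intro h0
    have h2 : ‖(Nat.card k : ℂ) ^ (-s)‖ < 1 := by
      rw [norm_cpow hq]
      exact Real.rpow_lt_one_of_one_lt_of_neg (by exact_mod_cast (by omega : 1 < Nat.card k))
        (by linarith)
    rw [← sub_eq_zero.1 h0, norm_one] at h2
    exact lt_irrefl _ h2
  rw [Complex.exp_neg, Complex.exp_log h1]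

end Finite

end K797.Base
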