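import Groth.Agent.Zeta.K797.Dz

/-!
# Meromorphic continuation past the line of convergence
-/

set_option autoImplicit false

noncomputable section

open Set Filter
open scoped Topology

namespace K797.Mer

/-- `L`, given for `Re s > r`, continues meromorphically to `Re s > r - ε` for some `ε > 0`, with
order `- m` at `r`; if `P` holds, there is no other pole. -/
def Ext (L : ℂ → ℂ) (r : ℝ) (m : ℕ) (P : Prop) : Prop :=
  ∃ ε : ℝ, 0 < ε ∧ ∃ g : ℂ → ℂ, MeromorphicOn g {s : ℂ | r - ε < s.re} ∧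
    (∀ s : ℂ, r < s.re → g s = L s) ∧
    meromorphicOrderAt g (r : ℂ) = ((-(m : ℤ) : ℤ) : WithTop ℤ) ∧
    (P → ∀ s : ℂ, r - ε < s.re → s ≠ (r : ℂ) → 0 ≤ meromorphicOrderAt g s)

variable {L L₁ L₂ : ℂ → ℂ} {r : ℝ} {m m₁ m₂ : ℕ} {P : Prop}

theorem Ext.congr (h : Ext L r m P) (h' : ∀ s : ℂ, r < s.re → L₁ s = L s) : Ext L₁ r m P := by
  obtain ⟨ε, hε, g, h1, h2, h3, h4⟩ := h
  exact ⟨ε, hε, g, h1, fun s hs => (h2 s hs).trans (h' s hs).symm, h3, h4⟩

theorem Ext.weaken (h : Ext L r m P) : Ext L r m False := by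
  obtain ⟨ε, hε, g, h1, h2, h3, h4⟩ := h
  exact ⟨ε, hε, g, h1, h2, h3, fun h => h.elim⟩

theorem Ext.mul (h₁ : Ext L₁ r m₁ P) (h₂ : Ext L₂ r m₂ P)
    (h : ∀ s : ℂ, r < s.re → L s = L₁ s * L₂ s) : Ext L r (m₁ + m₂) P := by
  obtain ⟨ε, hε, g, a1, a2, a3, a4⟩ := h₁
  obtain ⟨η, hη, k, b1, b2, b3, b4⟩ := h₂
  have ha : ∀ s : ℂ, r - min ε η < s.re → r - ε < s.re := fun s hs =>
    lt_of_le_of_lt (by linarith [min_le_left ε η]) hs
  have hb : ∀ s : ℂ, r - min ε η < s.re → r - η < s.re := fun s hs =>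
    lt_of_le_of_lt (by linarith [min_le_right ε η]) hs
  have hr : r - min ε η < ((r : ℂ)).re := by
    rw [Complex.ofReal_re]
    linarith [lt_min hε hη]
  refine ⟨min ε η, lt_min hε hη, g * k, fun s hs => (a1 s (ha s hs)).mul (b1 s (hb s hs)),
    fun s hs => ?_, ?_, fun hP s hs hne => ?_⟩
  · rw [Pi.mul_apply, a2 s hs, b2 s hs, h s hs]
  · rw [meromorphicOrderAt_mul (a1 _ (ha _ hr)) (b1 _ (hb _ hr)), a3, b3, ← WithTop.coe_add]
    congr 1
    push_cast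
    ring
  · rw [meromorphicOrderAt_mul (a1 _ (ha _ hs)) (b1 _ (hb _ hs))]
    exact add_nonneg (a4 hP s (ha s hs) hne) (b4 hP s (hb s hs) hne)

theorem order_exp {H : ℂ → ℂ} {s : ℂ} (hH : AnalyticAt ℂ H s) :
    meromorphicOrderAt (fun s => Complex.exp (H s)) s = 0 := by
  have h1 : AnalyticAt ℂ (fun s => Complex.exp (H s)) s := hH.cexp
  rw [h1.meromorphicOrderAt_eq, h1.analyticOrderAt_eq_zero.2 (Complex.exp_ne_zero _)]
  rfl

/-- The exponential of a function holomorphic past the line. -/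
theorem Ext.exp {ε : ℝ} (hε : 0 < ε) {H : ℂ → ℂ} (hH : ∀ s : ℂ, r - ε < s.re → AnalyticAt ℂ H s)
    (h : ∀ s : ℂ, r < s.re → L s = Complex.exp (H s)) : Ext L r 0 P := by
  refine ⟨ε, hε, fun s => Complex.exp (H s), fun s hs => (hH s hs).cexp.meromorphicAt,
    fun s hs => (h s hs).symm, ?_, fun _ s hs _ => (order_exp (hH s hs)).ge⟩
  rw [order_exp (hH _ (by rw [Complex.ofReal_re]; linarith))]
  rfl

/-- The Dedekind zeta function shifted by `r - 1`. -/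
theorem Ext.dedekind (K : Type*) [Field K] [NumberField K]
    (h : ∀ s : ℂ, r < s.re → L s = NumberField.dedekindZeta K (s - r + 1)) : Ext L r 1 P := by
  obtain ⟨g, h1, h2, h3, h4⟩ := K797.Dz.exists_continuation K
  have hth := K797.Dz.th_lt K
  have hsh : ∀ s : ℂ, AnalyticAt ℂ (fun s : ℂ => s - r + 1) s := fun s => by fun_prop
  have hre : ∀ s : ℂ, (s - r + 1).re = s.re - r + 1 := fun s => by simp
  have hder : ∀ s : ℂ, deriv (fun s : ℂ => s - r + 1) s ≠ 0 := fun s => by simp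
  refine ⟨1 - K797.Dz.th K, by linarith, g ∘ (fun s : ℂ => s - r + 1), fun s hs => ?_,
    fun s hs => ?_, ?_, fun _ s hs hne => ?_⟩
  · refine MeromorphicAt.comp_analyticAt (h1 _ ?_) (hsh s)
    change K797.Dz.th K < (s - r + 1).re
    change r - (1 - K797.Dz.th K) < s.re at hs
    rw [hre]
    linarith
  · rw [Function.comp_apply, h2 _ (by rw [hre]; linarith), h s hs]
  · rw [meromorphicOrderAt_comp_of_deriv_ne_zero (hsh _) (hder _), sub_self, zero_add, h3]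
    rfl
  · have h5 : AnalyticAt ℂ g (s - r + 1) := h4 _ (by rw [hre]; linarith) fun e => hne (by
      linear_combination e)
    exact (AnalyticAt.comp (g := g) (f := fun s : ℂ => s - r + 1) h5
      (hsh s)).meromorphicOrderAt_nonneg

/-- The local factor `(1 - Q ^ (r - s))⁻¹`. -/
theorem Ext.local {Q : ℝ} (hQ : 1 < Q)
    (h : ∀ s : ℂ, r < s.re → L s = (1 - (Q : ℂ) ^ ((r : ℂ) - s))⁻¹) : Ext L r 1 False := by
  have hQ0 : (Q : ℂ) ≠ 0 := by exact_mod_cast (by linarith : Q ≠ 0)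
  have hlog : Complex.log (Q : ℂ) ≠ 0 := by
    rw [← Complex.ofReal_log (by linarith)]
    exact_mod_cast (Real.log_pos hQ).ne'
  have han : ∀ s : ℂ, AnalyticAt ℂ (fun s : ℂ => (Q : ℂ) ^ ((r : ℂ) - s)) s := fun s => by
    have : (fun s : ℂ => (Q : ℂ) ^ ((r : ℂ) - s)) =
        fun s : ℂ => Complex.exp (Complex.log (Q : ℂ) * ((r : ℂ) - s)) := by
      funext s
      rw [Complex.cpow_def_of_ne_zero hQ0]
    rw [this]
    fun_prop
  have hder : deriv (fun s : ℂ => (Q : ℂ) ^ ((r : ℂ) - s)) (r : ℂ) ≠ 0 := by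
    have h1 : HasDerivAt (fun s : ℂ => (r : ℂ) - s) (-1) (r : ℂ) := by
      simpa using (hasDerivAt_id (r : ℂ)).const_sub (r : ℂ)
    have h2 := h1.const_cpow (c := (Q : ℂ)) (Or.inl hQ0)
    rw [h2.deriv]
    simp [hlog]
  have han2 : ∀ s : ℂ, AnalyticAt ℂ (fun s : ℂ => 1 - (Q : ℂ) ^ ((r : ℂ) - s)) s := fun s =>
    analyticAt_const.sub (han s)
  refine ⟨1, one_pos, (fun s : ℂ => 1 - (Q : ℂ) ^ ((r : ℂ) - s))⁻¹, fun s _ =>
    (han2 s).meromorphicAt.inv, fun s hs => (h s hs).symm, ?_, fun h => h.elim⟩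
  rw [meromorphicOrderAt_inv, (han2 _).meromorphicOrderAt_eq]
  have h5 : analyticOrderAt (fun s : ℂ => 1 - (Q : ℂ) ^ ((r : ℂ) - s)) (r : ℂ) = 1 := by
    have h6 := (han r).analyticOrderAt_sub_eq_one_of_deriv_ne_zero hder
    have h7 : (fun s : ℂ => 1 - (Q : ℂ) ^ ((r : ℂ) - s)) =
        fun s : ℂ => (-1 : ℂ) * ((Q : ℂ) ^ ((r : ℂ) - s) - (Q : ℂ) ^ ((r : ℂ) - (r : ℂ))) := by
      funext s
      rw [sub_self, Complex.cpow_zero]
      ring
    rw [h7]
    have h8 := analyticOrderAt_mul (f := fun _ : ℂ => (-1 : ℂ))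
      (g := fun s : ℂ => (Q : ℂ) ^ ((r : ℂ) - s) - (Q : ℂ) ^ ((r : ℂ) - (r : ℂ)))
      (z₀ := (r : ℂ)) analyticAt_const ((han _).sub analyticAt_const)
    rw [h6, (analyticAt_const (v := (-1 : ℂ))).analyticOrderAt_eq_zero.2 (by norm_num),
      zero_add] at h8
    exact h8
  rw [h5]
  rfl

end K797.Mer
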