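import Groth.Agent.Zeta.K468.Prod
import Groth.Agent.Zeta.K468.Uncond
import Groth.Agent.Zeta.K797.Mer
import Mathlib.FieldTheory.Finite.GaloisField

/-!
# Comparison of `L_A(s)` with `L_R(s - ρ)` from a Lang–Weil estimate of `A` over `R`
-/

set_option autoImplicit false
universe u

noncomputable section

open Filter Topology CategoryTheory AlgebraicGeometry
open K468.EP K468.Arith K468.Cnt

namespace K797.Comp

section Powers

theorem summable_powers {D : ℕ → ℂ} {b : ℕ} (hb : 2 ≤ b) (hD : ∀ n, (∀ m : ℕ, b ^ m ≠ n) → D n = 0)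
    {x C : ℝ} (hC : ∀ n, ‖D n‖ ≤ C * (n : ℝ) ^ x) {s : ℂ} (hs : x < s.re) :
    LSeriesSummable D s := by
  have hinj : Function.Injective (fun m : ℕ => b ^ m) := Nat.pow_right_injective hb
  have hb0 : (0 : ℝ) < b := by exact_mod_cast (by omega : 0 < b)
  have hb1 : (1 : ℝ) < b := by exact_mod_cast (by omega : 1 < b)
  unfold LSeriesSummable
  rw [← hinj.summable_iff]
  · have hgeo : Summable fun m : ℕ => C * ((b : ℝ) ^ (x - s.re)) ^ m := by
      refine (summable_geometric_of_lt_one (by positivity) ?_).mul_left C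
      exact Real.rpow_lt_one_of_one_lt_of_neg hb1 (by linarith)
    refine hgeo.of_norm_bounded fun m => ?_
    have hn0 : b ^ m ≠ 0 := pow_ne_zero _ (by omega)
    rw [Function.comp_apply, LSeries.norm_term_eq, if_neg hn0]
    have hpos : (0 : ℝ) < ((b ^ m : ℕ) : ℝ) := by positivity
    rw [div_le_iff₀ (by positivity)]
    refine (hC _).trans (le_of_eq ?_)
    rw [← Real.rpow_natCast, ← Real.rpow_mul hb0.le, mul_assoc]
    push_cast
    rw [← Real.rpow_natCast, ← Real.rpow_mul hb0.le, ← Real.rpow_mul hb0.le,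
      ← Real.rpow_add hb0]
    congr 2
    ring
  · intro n hn
    have : D n = 0 := hD n fun m hm => hn ⟨m, hm⟩
    rw [LSeries.term_def]
    split_ifs
    · rfl
    · rw [this, zero_div]

end Powers

section Count

variable (R A : Type u) [CommRing R] [CommRing A] [Algebra R A] [Algebra.FiniteType ℤ R]
  [Algebra.FiniteType ℤ A] (ρ : ℕ)

/-- The difference of the logarithmic coefficients. -/
def D (n : ℕ) : ℝ := cN (nm A) n - (n : ℝ) ^ ρ * cN (nm R) n

variable {R A}

theorem card_hom_eq (F : Type*) [Field F] [Finite F] [Fintype (R →+* F)] :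
    Nat.card (A →+* F) = ∑ φ : R →+* F, N A φ := by
  have hfin : Finite (A →+* F) :=
    Groth.Agent.UnramA.MonoEndo.finite_ringHom_of_finiteType_int A F
  rw [← Nat.card_congr (Equiv.sigmaFiberEquiv
    (fun ψ : A →+* F => ψ.comp (algebraMap R A))), Nat.card_sigma]
  rfl

theorem D_mul (F : Type*) [Field F] [Finite F] [Fintype (R →+* F)] (p m : ℕ)
    [hp : Fact p.Prime] (hF : Nat.card F = p ^ m) :
    D R A ρ (Nat.card F) * m = ∑ φ : R →+* F, ((N A φ : ℝ) - (Nat.card F : ℝ) ^ ρ) := by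
  rw [D, sub_mul, mul_assoc, cN_nm A F p m hF, cN_nm R F p m hF, card_hom_eq (R := R),
    Finset.sum_sub_distrib, Finset.sum_const, Finset.card_univ, nsmul_eq_mul,
    Nat.card_eq_fintype_card (α := R →+* F)]
  push_cast
  ring

theorem D_eq_zero {n : ℕ} (hn : ¬ IsPrimePow n) : D R A ρ n = 0 := by
  rw [D, cN_nm_eq_zero A hn, cN_nm_eq_zero R hn, mul_zero, sub_zero]

variable (h : R) (hu : IsUnit (algebraMap R A h)) {C : ℝ} (hC : 0 ≤ C)
  (hLW : ∀ (F : Type u) [Field F] [Finite F] (φ : R →+* F), φ h ≠ 0 →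
    |(N A φ : ℝ) - (Nat.card F : ℝ) ^ ρ| ≤ C * ((Nat.card F : ℝ) ^ ρ / Real.sqrt (Nat.card F)))
  (B : ℕ) (hB : ∀ (F : Type u) [Field F] [Finite F], Nat.card (R →+* F) ≤ B)

/-- A finite field with `p ^ m` elements. -/
abbrev FF (p m : ℕ) [Fact p.Prime] : Type u := ULift.{u} (GaloisField p m)

theorem card_FF (p m : ℕ) [Fact p.Prime] (hm : m ≠ 0) : Nat.card (FF.{u} p m) = p ^ m := by
  rw [Nat.card_ulift, GaloisField.card p m hm]

include hB in
theorem bound_of (F : Type u) [Field F] [Finite F] (p m : ℕ) [hp : Fact p.Prime] (hm : m ≠ 0)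
    (hF : Nat.card F = p ^ m) (M : ℝ) (hM : 0 ≤ M)
    (h1 : ∀ φ : R →+* F, |(N A φ : ℝ) - (Nat.card F : ℝ) ^ ρ| ≤ M) :
    |D R A ρ (Nat.card F)| ≤ B * M := by
  have hfin : Finite (R →+* F) :=
    Groth.Agent.UnramA.MonoEndo.finite_ringHom_of_finiteType_int R F
  have := Fintype.ofFinite (R →+* F)
  have hm1 : (1 : ℝ) ≤ m := by exact_mod_cast Nat.one_le_iff_ne_zero.mpr hm
  calc |D R A ρ (Nat.card F)| ≤ |D R A ρ (Nat.card F)| * m :=
        le_mul_of_one_le_right (abs_nonneg _) hm1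
    _ = |∑ φ : R →+* F, ((N A φ : ℝ) - (Nat.card F : ℝ) ^ ρ)| := by
        rw [← D_mul ρ F p m hF, abs_mul, abs_of_nonneg (by linarith : (0 : ℝ) ≤ m)]
    _ ≤ ∑ φ : R →+* F, |(N A φ : ℝ) - (Nat.card F : ℝ) ^ ρ| := Finset.abs_sum_le_sum_abs _ _
    _ ≤ ∑ _φ : R →+* F, M := Finset.sum_le_sum fun φ _ => h1 φ
    _ = (Nat.card (R →+* F) : ℝ) * M := by
        rw [Finset.sum_const, Finset.card_univ, nsmul_eq_mul, Nat.card_eq_fintype_card]
    _ ≤ B * M := by
        gcongr
        exact_mod_cast hB F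

include hLW hC in
theorem est_good (F : Type u) [Field F] [Finite F] (φ : R →+* F) (hφ : φ h ≠ 0) :
    |(N A φ : ℝ) - (Nat.card F : ℝ) ^ ρ| ≤ C * (Nat.card F : ℝ) ^ ((ρ : ℝ) - 1 / 2) := by
  have hq : (0 : ℝ) < Nat.card F := by exact_mod_cast Nat.card_pos
  rw [Real.rpow_sub hq, Real.rpow_natCast, ← Real.sqrt_eq_rpow]
  exact hLW F φ hφ

include hu in
theorem N_eq_zero (F : Type*) [Field F] (φ : R →+* F) (hφ : φ h = 0) : N A φ = 0 := by
  have : IsEmpty {ψ : A →+* F // ψ.comp (algebraMap R A) = φ} := by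
    refine ⟨fun ψ => ?_⟩
    have h1 := (hu.map ψ.1).ne_zero
    apply h1
    rw [← RingHom.comp_apply, ψ.2, hφ]
  exact Nat.card_of_isEmpty

include hLW hC hu in
theorem est_all (F : Type u) [Field F] [Finite F] (φ : R →+* F) :
    |(N A φ : ℝ) - (Nat.card F : ℝ) ^ ρ| ≤ (C + 1) * (Nat.card F : ℝ) ^ (ρ : ℝ) := by
  have hq : (1 : ℝ) ≤ Nat.card F := by exact_mod_cast Nat.card_pos
  by_cases hφ : φ h = 0
  · rw [N_eq_zero h hu F φ hφ, Nat.cast_zero, zero_sub, abs_neg, abs_of_nonneg (by positivity),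
      Real.rpow_natCast]
    have : 0 ≤ C * (Nat.card F : ℝ) ^ ρ := by positivity
    linarith
  · refine (est_good ρ h hC hLW F φ hφ).trans ?_
    have h1 : (Nat.card F : ℝ) ^ ((ρ : ℝ) - 1 / 2) ≤ (Nat.card F : ℝ) ^ (ρ : ℝ) :=
      Real.rpow_le_rpow_of_exponent_le hq (by linarith)
    have h2 : (0 : ℝ) ≤ (Nat.card F : ℝ) ^ (ρ : ℝ) := by positivity
    nlinarith

include hLW hC hu hB in
theorem bound_all (n : ℕ) : |D R A ρ n| ≤ B * (C + 1) * (n : ℝ) ^ (ρ : ℝ) := by
  by_cases hn : IsPrimePow n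
  · obtain ⟨p, m, hp, hm, rfl⟩ := hn
    have : Fact p.Prime := ⟨hp.nat_prime⟩
    have hF := card_FF.{u} p m hm.ne'
    have h1 := bound_of ρ B hB (FF.{u} p m) p m hm.ne' hF
      ((C + 1) * (Nat.card (FF.{u} p m) : ℝ) ^ (ρ : ℝ)) (by positivity)
      (fun φ => est_all ρ h hu hC hLW _ φ)
    rw [hF, ← mul_assoc] at h1
    exact h1
  · rw [D_eq_zero ρ hn, abs_zero]
    positivity

include hLW hC hB in
theorem bound_good (n : ℕ) (hgood : ∀ (F : Type u) [Field F] [Finite F] (φ : R →+* F),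
    Nat.card F = n → φ h ≠ 0) :
    |D R A ρ n| ≤ B * C * (n : ℝ) ^ ((ρ : ℝ) - 1 / 2) := by
  by_cases hn : IsPrimePow n
  · obtain ⟨p, m, hp, hm, rfl⟩ := hn
    have : Fact p.Prime := ⟨hp.nat_prime⟩
    have hF := card_FF.{u} p m hm.ne'
    have h1 := bound_of ρ B hB (FF.{u} p m) p m hm.ne' hF
      (C * (Nat.card (FF.{u} p m) : ℝ) ^ ((ρ : ℝ) - 1 / 2)) (by positivity)
      (fun φ => est_good ρ h hC hLW _ φ (hgood _ φ hF))
    rw [hF, ← mul_assoc] at h1
    exact h1
  · rw [D_eq_zero ρ hn, abs_zero]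
    positivity

theorem natCast_ne_zero_of_card (F : Type*) [Field F] [Finite F] {N₀ : ℕ} (hN₀ : N₀ ≠ 0)
    (hgood : ∀ p ∈ N₀.primeFactors, ∀ m : ℕ, p ^ m ≠ Nat.card F) : (N₀ : F) ≠ 0 := by
  intro h0
  obtain ⟨q, hq⟩ := CharP.exists F
  have hq' : q.Prime := (CharP.char_is_prime_or_zero F q).resolve_right fun h => by
    subst h
    have := CharP.charP_to_charZero F
    exact not_finite F
  have : Fact q.Prime := ⟨hq'⟩
  let _ : Algebra (ZMod q) F := ZMod.algebra F q
  have h1 : Nat.card F = q ^ Module.finrank (ZMod q) F := by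
    rw [Module.natCard_eq_pow_finrank (K := ZMod q), Nat.card_zmod]
  exact hgood q (Nat.mem_primeFactors.2 ⟨hq', (CharP.cast_eq_zero_iff F q N₀).1 h0, hN₀⟩) _ h1.symm

include hLW hC hu hB in
/-- Summability of the difference series, arithmetic case. -/
theorem summable_D_int {N₀ : ℕ} (hN₀ : N₀ ≠ 0) (hdvd : h ∣ (N₀ : R)) {s : ℂ}
    (hs : (ρ : ℝ) + 1 / 2 < s.re) : LSeriesSummable (fun n => (D R A ρ n : ℂ)) s := by
  classical
  let bad : ℕ → ℕ → Prop := fun p n => ∃ m : ℕ, p ^ m = n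
  let D₁ : ℕ → ℂ := fun n => if ∃ p ∈ N₀.primeFactors, bad p n then 0 else (D R A ρ n : ℂ)
  let E : ℕ → ℕ → ℂ := fun p n => if bad p n then (D R A ρ n : ℂ) else 0
  have h1 : LSeriesSummable D₁ s := by
    refine LSeriesSummable_of_le_const_mul_rpow hs ⟨B * C, fun n hn => ?_⟩
    simp only [D₁]
    split_ifs with hb
    · rw [norm_zero]
      positivity
    · rw [Complex.norm_real, Real.norm_eq_abs, show (ρ : ℝ) + 1 / 2 - 1 = (ρ : ℝ) - 1 / 2 by ring]
      refine bound_good ρ h hC hLW B hB n fun F _ _ φ hF hφ => ?_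
      push Not at hb
      refine natCast_ne_zero_of_card F hN₀ (fun p hp m hm => hb p hp ⟨m, hm.trans hF⟩) ?_
      rw [← map_natCast φ]
      obtain ⟨c, hc⟩ := hdvd
      rw [hc, map_mul, hφ, zero_mul]
  have h2 : ∀ p ∈ N₀.primeFactors, LSeriesSummable (E p) s := by
    intro p hp
    refine summable_powers (x := ρ) (C := B * (C + 1)) (Nat.prime_of_mem_primeFactors hp).two_le
      (fun n hn => ?_) (fun n => ?_) (by linarith)
    · simp only [E, bad]
      rw [if_neg]
      rintro ⟨m, hm⟩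
      exact hn m hm
    · simp only [E]
      split_ifs
      · rw [Complex.norm_real, Real.norm_eq_abs]
        exact bound_all ρ h hu hC hLW B hB n
      · rw [norm_zero]
        positivity
  have h3 : Summable fun n => ‖LSeries.term D₁ s n‖ +
      ∑ p ∈ N₀.primeFactors, ‖LSeries.term (E p) s n‖ :=
    h1.norm.add (summable_sum fun p hp => (h2 p hp).norm)
  refine h3.of_norm_bounded fun n => ?_
  by_cases hb : ∃ p ∈ N₀.primeFactors, bad p n
  · obtain ⟨p, hp, hb⟩ := hb
    have e : LSeries.term (fun n => (D R A ρ n : ℂ)) s n = LSeries.term (E p) s n := by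
      rw [LSeries.term_def, LSeries.term_def]
      simp only [E, if_pos hb]
    rw [e]
    refine (Finset.single_le_sum (f := fun p => ‖LSeries.term (E p) s n‖)
      (fun p _ => norm_nonneg _) hp).trans ?_
    exact le_add_of_nonneg_left (norm_nonneg _)
  · have e : LSeries.term (fun n => (D R A ρ n : ℂ)) s n = LSeries.term D₁ s n := by
      rw [LSeries.term_def, LSeries.term_def]
      simp only [D₁, if_neg hb]
    rw [e]
    exact le_add_of_nonneg_right (Finset.sum_nonneg fun p _ => norm_nonneg _)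

include hLW hC hB in
/-- Summability of the difference series, case of characteristic `p`. -/
theorem summable_D_char (p : ℕ) [hp : Fact p.Prime] [CharP R p]
    (hh : ∀ (F : Type u) [Field F] [Finite F] (φ : R →+* F), φ h ≠ 0) {s : ℂ}
    (hs : (ρ : ℝ) - 1 / 2 < s.re) : LSeriesSummable (fun n => (D R A ρ n : ℂ)) s := by
  refine summable_powers (x := (ρ : ℝ) - 1 / 2) (C := B * C) hp.out.two_le (fun n hn => ?_)
    (fun n => ?_) hs
  · by_cases hn' : IsPrimePow n
    · obtain ⟨q, m, hq, hm, rfl⟩ := hn'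
      have : Fact q.Prime := ⟨hq.nat_prime⟩
      have hne : q ≠ p := fun e => hn m (by rw [e])
      have hF := card_FF.{u} q m hm.ne'
      have hfin : Finite (R →+* FF.{u} q m) :=
        Groth.Agent.UnramA.MonoEndo.finite_ringHom_of_finiteType_int R _
      have hemp : IsEmpty (R →+* FF.{u} q m) := by
        refine ⟨fun φ => ?_⟩
        have h0 : ((p : ℕ) : FF.{u} q m) = 0 := by
          rw [← map_natCast φ, CharP.cast_eq_zero, map_zero]
        refine natCast_ne_zero_of_card (FF.{u} q m) hp.out.ne_zero (fun p' hp' m' hm' => ?_) h0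
        rw [hp.out.primeFactors, Finset.mem_singleton] at hp'
        subst hp'
        rw [hF] at hm'
        have h1 : p' ∣ q ^ m := by
          rw [← hm']
          refine dvd_pow_self p' fun h2 => ?_
          rw [h2, pow_zero] at hm'
          exact (Nat.one_lt_pow hm.ne' hq.nat_prime.one_lt).ne hm'
        exact hne ((Nat.prime_dvd_prime_iff_eq hp.out hq.nat_prime).1
          (hp.out.dvd_of_dvd_pow h1)).symm
      have := Fintype.ofFinite (R →+* FF.{u} q m)
      have h2 := D_mul (R := R) (A := A) ρ (FF.{u} q m) q m hF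
      rw [hF, Finset.univ_eq_empty, Finset.sum_empty] at h2
      have h3 : (m : ℝ) ≠ 0 := by exact_mod_cast hm.ne'
      have h4 := (mul_eq_zero.1 h2).resolve_right h3
      change ((D R A ρ (q ^ m) : ℝ) : ℂ) = 0
      rw [h4, Complex.ofReal_zero]
    · rw [D_eq_zero ρ hn', Complex.ofReal_zero]
  · rw [Complex.norm_real, Real.norm_eq_abs]
    exact bound_good ρ h hC hLW B hB n fun F _ _ φ _ => hh F φ

end Count

section LSer

variable (R A : Type u) [CommRing R] [CommRing A] [Algebra R A] [Algebra.FiniteType ℤ R]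
  [Algebra.FiniteType ℤ A] (ρ : ℕ)

theorem cN_nX_spec (n : ℕ) : cN (nX (Spec (CommRingCat.of A))) n = cN (nm A) n := by
  rw [cN, cN, ← (specEquiv A).tsum_eq]
  simp only [nX_specEquiv]

theorem LSeries_split {s : ℂ} (hR : LSeriesSummable (fun n => (cN (nm R) n : ℂ)) (s - ρ))
    (hD : LSeriesSummable (fun n => (D R A ρ n : ℂ)) s) :
    LSeries (fun n => (cN (nm A) n : ℂ)) s =
      LSeries (fun n => (cN (nm R) n : ℂ)) (s - ρ) + LSeries (fun n => (D R A ρ n : ℂ)) s := by
  rw [LSeries, LSeries, LSeries, ← hR.tsum_add hD]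
  refine tsum_congr fun n => ?_
  rw [LSeries.term_def, LSeries.term_def, LSeries.term_def]
  split_ifs with hn
  · rw [add_zero]
  · have hn' : (n : ℂ) ≠ 0 := by exact_mod_cast hn
    have h1 : (n : ℂ) ^ (s - ρ) = (n : ℂ) ^ s / (n : ℂ) ^ ρ := by
      rw [Complex.cpow_sub _ _ hn', Complex.cpow_natCast]
    have h2 : (n : ℂ) ^ s ≠ 0 := by
      rw [Ne, Complex.cpow_eq_zero_iff]
      exact fun h => hn' h.1
    rw [h1, D]
    push_cast
    field_simp
    ring

theorem analyticAt_LSeries {f : ℕ → ℂ} {x : ℝ}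
    (hf : ∀ s : ℂ, x < s.re → LSeriesSummable f s) {s : ℂ} (hs : x < s.re) :
    AnalyticAt ℂ (LSeries f) s := by
  refine LSeries_analyticOnNhd f s ?_
  have h1 : LSeries.abscissaOfAbsConv f ≤ (x : ℝ) :=
    LSeries.abscissaOfAbsConv_le_of_forall_lt_LSeriesSummable fun y hy => hf y (by simpa using hy)
  exact lt_of_le_of_lt h1 (by exact_mod_cast hs)

end LSer

end K797.Comp
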