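import Groth.Agent.Zeta.K797.Thin
import Mathlib.NumberTheory.NumberField.CanonicalEmbedding.NormLeOne
import Mathlib.Topology.Algebra.MetricSpace.Lipschitz
import Mathlib.Analysis.SpecialFunctions.ExpDeriv

set_option autoImplicit false

open Set MeasureTheory Module NumberField NumberField.InfinitePlace NumberField.mixedEmbedding
  NumberField.mixedEmbedding.fundamentalCone NumberField.Units.dirichletUnitTheorem
open scoped NNReal ENNReal Pointwise Classical

namespace K797.Cone

open K797.Thin

variable (K : Type*) [Field K] [NumberField K]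

/-- The parametrization of the compact set of Mathlib by the unit cube. -/
noncomputable def Phi (z : realSpace K) : realSpace K :=
  z w₀ • expMapBasis (fun i => if i = w₀ then 0 else z i)

theorem contDiff_Phi : ContDiff ℝ 1 (Phi K) := by
  unfold Phi
  refine ContDiff.smul (contDiff_apply ℝ ℝ w₀) ?_
  have h1 : ContDiff ℝ 1 (fun z : realSpace K => (fun i => if i = w₀ then (0 : ℝ) else z i : realSpace K)) := by
    rw [contDiff_pi]
    intro i
    split_ifs <;> fun_prop
  have h2 : ContDiff ℝ 1 (expMap : realSpace K → realSpace K) := by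
    rw [contDiff_pi]
    intro i
    simp only [expMap_apply]
    fun_prop
  exact (h2.comp (completeBasis K).equivFunL.symm.contDiff).comp h1

theorem isCompact_cube (ι : Type*) : IsCompact (cube ι) := isCompact_univ_pi fun _ => isCompact_Icc

theorem exists_lipschitz : ∃ L : ℝ≥0, LipschitzOnWith L (Phi K) (cube (InfinitePlace K)) :=
  ((contDiff_Phi K).locallyLipschitz.locallyLipschitzOn).exists_lipschitzOnWith_of_compact
    (isCompact_cube _)

/-- The image under `Phi` of the boundary of the cube. -/
def bdry : Set (realSpace K) :=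
  ⋃ w : InfinitePlace K, (Phi K '' face w 0 ∪ Phi K '' face w 1)

theorem isCompact_face {ι : Type*} (w : ι) (a : ℝ) : IsCompact (face w a) := by
  have : face w a = cube ι ∩ {z | z w = a} := rfl
  rw [this]
  exact (isCompact_cube ι).inter_right (isClosed_eq (continuous_apply w) continuous_const)

theorem isCompact_bdry : IsCompact (bdry K) := by
  apply isCompact_iUnion
  intro w
  exact ((isCompact_face w 0).image (contDiff_Phi K).continuous).union
    ((isCompact_face w 1).image (contDiff_Phi K).continuous)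

theorem sdiff_subset_bdry :
    compactSet K \ (expMapBasis '' interior (paramSet K)) ⊆ bdry K := by
  rintro x ⟨hx, hx2⟩
  obtain ⟨c, hc, ⟨_, ⟨y, hy, rfl⟩, rfl⟩⟩ := hx
  set z : realSpace K := fun w => if w = w₀ then c else y w with hz
  have hzc : z ∈ cube (InfinitePlace K) := by
    intro w _
    by_cases h : w = w₀
    · simp only [hz, h, if_true]; exact hc
    · have := hy w (mem_univ _)
      simpa [hz, h] using this
  have hy0 : y w₀ = 0 := by simpa using hy w₀ (mem_univ _)
  have hPhi : Phi K z = c • expMapBasis y := by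
    have : (fun i => if i = w₀ then (0 : ℝ) else z i) = y := by
      ext i
      by_cases h : i = w₀
      · simp only [h, if_true, hy0]
      · simp [hz, h]
    rw [Phi, this]
    simp [hz]
  change c • (expMapBasis y : realSpace K) ∈ bdry K
  change c • (expMapBasis y : realSpace K) ∉ _ at hx2
  rw [← hPhi] at hx2 ⊢
  by_contra hcon
  apply hx2
  have hint : ∀ w, 0 < z w ∧ z w < 1 := by
    intro w
    have hw := hzc w (mem_univ _)
    refine ⟨lt_of_le_of_ne hw.1 fun h => hcon ?_, lt_of_le_of_ne hw.2 fun h => hcon ?_⟩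
    · exact mem_iUnion.2 ⟨w, Or.inl ⟨z, ⟨hzc, h.symm⟩, rfl⟩⟩
    · exact mem_iUnion.2 ⟨w, Or.inr ⟨z, ⟨hzc, h⟩, rfl⟩⟩
  refine ⟨fun w => if w = w₀ then Real.log c else y w, ?_, ?_⟩
  · rw [interior_paramSet, Set.mem_univ_pi]
    intro w
    by_cases h : w = w₀
    · have := hint w
      simp only [hz, h, if_true] at this ⊢
      exact Real.log_neg this.1 this.2
    · have := hint w
      simp only [hz, h, if_false] at this ⊢
      exact this
  · have hc0 : 0 < c := by simpa [hz] using (hint w₀).1
    rw [hPhi, expMapBasis_apply'']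
    simp only [if_true, Real.exp_log hc0]
    congr 1
    refine congrArg _ ?_
    funext i
    by_cases h : i = w₀
    · simp [h, hy0]
    · simp [h]

theorem frontier_subset : frontier (normLeOne K) ⊆ normAtAllPlaces ⁻¹' (bdry K) := by
  rintro x ⟨h1, h2⟩
  refine sdiff_subset_bdry K ⟨closure_normLeOne_subset K h1, fun h => h2 ?_⟩
  exact subset_interior_normLeOne K h

theorem dist_normAtAllPlaces_le (x y : mixedSpace K) :
    dist (normAtAllPlaces x : realSpace K) (normAtAllPlaces y) ≤ dist x y := by
  rw [dist_pi_le_iff dist_nonneg]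
  intro w
  rw [Prod.dist_eq]
  rcases isReal_or_isComplex w with hw | hw
  · rw [normAtAllPlaces_apply, normAtAllPlaces_apply, normAtPlace_apply_of_isReal hw,
      normAtPlace_apply_of_isReal hw]
    refine le_trans ?_ (le_max_left _ _)
    refine le_trans ?_ (dist_le_pi_dist x.1 y.1 ⟨w, hw⟩)
    rw [Real.dist_eq, dist_eq_norm]
    exact abs_norm_sub_norm_le _ _
  · rw [normAtAllPlaces_apply, normAtAllPlaces_apply, normAtPlace_apply_of_isComplex hw,
      normAtPlace_apply_of_isComplex hw]
    refine le_trans ?_ (le_max_right _ _)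
    refine le_trans ?_ (dist_le_pi_dist x.2 y.2 ⟨w, hw⟩)
    rw [Real.dist_eq, dist_eq_norm]
    exact abs_norm_sub_norm_le _ _

theorem nb_frontier_subset (δ : ℝ) :
    nb δ (frontier (normLeOne K)) ⊆ normAtAllPlaces ⁻¹' (nb δ (bdry K)) := by
  rintro y ⟨z, hz, hd⟩
  exact ⟨normAtAllPlaces z, frontier_subset K hz, (dist_normAtAllPlaces_le K y z).trans hd⟩

theorem isClosed_nb {X : Type*} [MetricSpace X] {A : Set X} (hA : IsCompact A) {δ : ℝ}
    (hδ : 0 ≤ δ) : IsClosed (nb δ A) := by
  have : nb δ A = Metric.cthickening δ A := by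
    rw [hA.cthickening_eq_biUnion_closedBall hδ]
    ext y
    simp [nb]
  rw [this]
  exact Metric.isClosed_cthickening

theorem volume_nb_bdry : ∃ C : ℝ, 0 ≤ C ∧ ∀ δ : ℝ, 0 < δ → δ ≤ 1 →
    volume (nb δ (bdry K)) ≤ ENNReal.ofReal (C * δ) := by
  obtain ⟨L, hL⟩ := exists_lipschitz K
  have h0 := fun w : InfinitePlace K => volume_nb_image_face (Phi K) L hL w 0 (by simp)
  have h1 := fun w : InfinitePlace K => volume_nb_image_face (Phi K) L hL w 1 (by simp)
  choose C0 hC0 hb0 using h0
  choose C1 hC1 hb1 using h1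
  refine ⟨∑ w, (C0 w + C1 w), Finset.sum_nonneg fun w _ => add_nonneg (hC0 w) (hC1 w),
    fun δ hδ hδ1 => ?_⟩
  have hun : nb δ (bdry K) ⊆ ⋃ w : InfinitePlace K,
      (nb δ (Phi K '' face w 0) ∪ nb δ (Phi K '' face w 1)) := by
    rintro y ⟨z, hz, hd⟩
    obtain ⟨w, hw⟩ := mem_iUnion.1 hz
    refine mem_iUnion.2 ⟨w, ?_⟩
    rcases hw with hw | hw
    · exact Or.inl ⟨z, hw, hd⟩
    · exact Or.inr ⟨z, hw, hd⟩
  refine (measure_mono hun).trans ((measure_iUnion_fintype_le _ _).trans ?_)
  rw [Finset.sum_mul, ENNReal.ofReal_sum_of_nonneg fun w _ =>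
    mul_nonneg (add_nonneg (hC0 w) (hC1 w)) hδ.le]
  refine Finset.sum_le_sum fun w _ => (measure_union_le _ _).trans ?_
  rw [add_mul, ENNReal.ofReal_add (mul_nonneg (hC0 w) hδ.le) (mul_nonneg (hC1 w) hδ.le)]
  exact add_le_add (hb0 w δ hδ hδ1) (hb1 w δ hδ hδ1)

theorem volume_nb_frontier : ∃ C : ℝ, 0 ≤ C ∧ ∀ δ : ℝ, 0 < δ → δ ≤ 1 →
    volume (nb δ (frontier (normLeOne K))) ≤ ENNReal.ofReal (C * δ) := by
  obtain ⟨C, hC, hb⟩ := volume_nb_bdry K
  obtain ⟨R, hR⟩ := (isCompact_bdry K).isBounded.exists_norm_le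
  set R' : ℝ := max R 0 + 1 with hR'
  have hR0 : 0 ≤ R' := by positivity
  refine ⟨2 ^ nrRealPlaces K * (2 * Real.pi) ^ nrComplexPlaces K *
    (R' ^ (Fintype.card {w : InfinitePlace K // IsComplex w}) * C), by positivity,
    fun δ hδ hδ1 => ?_⟩
  have hcl := isClosed_nb (isCompact_bdry K) hδ.le
  have hm : MeasurableSet (normAtAllPlaces ⁻¹' (nb δ (bdry K)) : Set (mixedSpace K)) :=
    hcl.measurableSet.preimage (continuous_normAtAllPlaces K).measurable
  refine (measure_mono (nb_frontier_subset K δ)).trans ?_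
  rw [volume_eq_two_pow_mul_two_pi_pow_mul_integral Set.preimage_image_preimage hm]
  have hi : ∫⁻ x in (normAtAllPlaces '' (normAtAllPlaces ⁻¹' (nb δ (bdry K))) : Set (realSpace K)),
      ∏ w : {w // IsComplex w}, ENNReal.ofReal (x w.1) ≤
      ENNReal.ofReal (R' ^ (Fintype.card {w : InfinitePlace K // IsComplex w}) * (C * δ)) := by
    calc ∫⁻ x in (normAtAllPlaces '' (normAtAllPlaces ⁻¹' (nb δ (bdry K))) : Set (realSpace K)),
        ∏ w : {w // IsComplex w}, ENNReal.ofReal (x w.1)
        ≤ ∫⁻ x in nb δ (bdry K), ∏ w : {w // IsComplex w}, ENNReal.ofReal (x w.1) :=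
          lintegral_mono_set (image_preimage_subset _ _)
      _ ≤ ∫⁻ x in nb δ (bdry K),
          ENNReal.ofReal (R' ^ (Fintype.card {w : InfinitePlace K // IsComplex w})) := by
          refine setLIntegral_mono' hcl.measurableSet fun x hx => ?_
          obtain ⟨z, hz, hd⟩ := hx
          have hx' : ∀ w, x w ≤ R' := by
            intro w
            have h1 : ‖x w - z w‖ ≤ δ := by
              have := (dist_pi_le_iff hδ.le).1 hd w
              rwa [dist_eq_norm] at this
            have h2 : ‖z w‖ ≤ R := (norm_le_pi_norm z w).trans (hR z hz)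
            rw [Real.norm_eq_abs] at h1 h2
            have h3 := (abs_le.1 h1).2
            have h4 := (abs_le.1 h2).2
            have h5 := le_max_left R 0
            rw [hR']; linarith
          calc ∏ w : {w : InfinitePlace K // IsComplex w}, ENNReal.ofReal (x w.1)
              ≤ ∏ w : {w : InfinitePlace K // IsComplex w}, ENNReal.ofReal R' :=
                Finset.prod_le_prod' fun w _ => ENNReal.ofReal_le_ofReal (hx' w)
            _ = ENNReal.ofReal (R' ^ (Fintype.card {w : InfinitePlace K // IsComplex w})) := by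
                rw [Finset.prod_const, Finset.card_univ, ENNReal.ofReal_pow hR0]
      _ = ENNReal.ofReal (R' ^ (Fintype.card {w : InfinitePlace K // IsComplex w})) *
            volume (nb δ (bdry K)) := by
          rw [setLIntegral_const]
      _ ≤ ENNReal.ofReal (R' ^ (Fintype.card {w : InfinitePlace K // IsComplex w})) *
            ENNReal.ofReal (C * δ) := by gcongr; exact hb δ hδ hδ1
      _ = _ := by rw [← ENNReal.ofReal_mul (by positivity)]
  refine (mul_le_mul_right hi _).trans (le_of_eq ?_)
  rw [← ENNReal.ofReal_pow (by positivity), show (2 : ℝ≥0∞) = ENNReal.ofReal 2 by simp,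
    ← ENNReal.ofReal_pow (by positivity), ← ENNReal.ofReal_mul (by positivity),
    ← ENNReal.ofReal_mul (by positivity)]
  congr 1
  ring

end K797.Cone
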