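import Groth.Agent.Zeta.K797.Ideal
import Mathlib.NumberTheory.LSeries.SumCoeff
import Mathlib.Analysis.MellinTransform
import Mathlib.Analysis.Meromorphic.Order
import Mathlib.Analysis.Complex.CauchyIntegral

set_option autoImplicit false

noncomputable section

open Set MeasureTheory Filter Asymptotics
open scoped Topology

namespace K797.Cont

variable (f : ℕ → ℂ) (κ : ℂ)

/-- The error term of the partial sums, cut off below `1`. -/
def err (t : ℝ) : ℂ :=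
  (Ioi (1 : ℝ)).indicator (fun t : ℝ => (∑ k ∈ Finset.Icc 1 ⌊t⌋₊, f k) - κ * (t : ℂ)) t

theorem locallyIntegrableOn_err : LocallyIntegrableOn (err f κ) (Ioi 0) := by
  have h1 : LocallyIntegrableOn (fun t : ℝ => (1 : ℂ) * ∑ k ∈ Finset.Icc 1 ⌊t⌋₊, f k)
      (Ici (0 : ℝ)) :=
    locallyIntegrableOn_mul_sum_Icc f le_rfl
      (continuous_const.locallyIntegrable.locallyIntegrableOn _)
  have h2 : LocallyIntegrableOn (fun t : ℝ => (∑ k ∈ Finset.Icc 1 ⌊t⌋₊, f k) - κ * (t : ℂ))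
      (Ici (0 : ℝ)) := by
    refine LocallyIntegrableOn.sub ?_ ?_
    · simpa only [one_mul] using h1
    · exact (Continuous.locallyIntegrable (by fun_prop)).locallyIntegrableOn _
  rw [locallyIntegrableOn_iff isOpen_Ioi.isLocallyClosed]
  intro K hK hKc
  exact ((locallyIntegrableOn_iff isClosed_Ici.isLocallyClosed).1 h2 K
    (hK.trans Ioi_subset_Ici_self) hKc).indicator measurableSet_Ioi

variable {f κ} {θ C : ℝ}

theorem isBigO_err (hC : ∀ x : ℝ, 1 ≤ x →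
    ‖(∑ k ∈ Finset.Icc 1 ⌊x⌋₊, f k) - κ * (x : ℂ)‖ ≤ C * x ^ θ) :
    err f κ =O[atTop] (fun t : ℝ => t ^ (-(-θ))) := by
  rw [neg_neg]
  refine IsBigO.of_bound C ?_
  filter_upwards [eventually_gt_atTop (1 : ℝ)] with t ht
  rw [err, indicator_of_mem (mem_Ioi.mpr ht), Real.norm_of_nonneg (Real.rpow_nonneg (by linarith) _)]
  exact hC t ht.le

theorem err_zero {t : ℝ} (ht : t ≤ 1) : err f κ t = 0 := by
  rw [err, indicator_of_notMem (by simpa using ht)]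

theorem isBigO_err_zero (b : ℝ) : err f κ =O[𝓝[>] 0] (fun t : ℝ => t ^ (-b)) := by
  have h : err f κ =ᶠ[𝓝[>] 0] fun _ => (0 : ℂ) := by
    filter_upwards [nhdsWithin_le_nhds (Iio_mem_nhds (zero_lt_one (α := ℝ)))] with t ht
    exact err_zero (le_of_lt ht)
  exact (isBigO_congr h EventuallyEq.rfl).mpr (isBigO_zero _ _)

variable (f κ) in
/-- The holomorphic part. -/
def hol (s : ℂ) : ℂ := mellin (err f κ) (-s)

theorem differentiableAt_hol (hC : ∀ x : ℝ, 1 ≤ x →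
    ‖(∑ k ∈ Finset.Icc 1 ⌊x⌋₊, f k) - κ * (x : ℂ)‖ ≤ C * x ^ θ) {s : ℂ} (hs : θ < s.re) :
    DifferentiableAt ℂ (hol f κ) s := by
  have h := mellin_differentiableAt_of_isBigO_rpow (s := -s) (locallyIntegrableOn_err f κ)
    (isBigO_err hC) (by rw [Complex.neg_re]; linarith) (isBigO_err_zero (-s.re - 1))
    (by rw [Complex.neg_re]; linarith)
  exact h.comp s (differentiableAt_id.neg)

variable (f κ) in
/-- The continuation. -/
def cont (s : ℂ) : ℂ := s * hol f κ s + κ * s / (s - 1)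

theorem isOpen_re (θ : ℝ) : IsOpen {s : ℂ | θ < s.re} :=
  isOpen_lt continuous_const Complex.continuous_re

theorem analyticAt_hol (hC : ∀ x : ℝ, 1 ≤ x →
    ‖(∑ k ∈ Finset.Icc 1 ⌊x⌋₊, f k) - κ * (x : ℂ)‖ ≤ C * x ^ θ) {s : ℂ} (hs : θ < s.re) :
    AnalyticAt ℂ (hol f κ) s := by
  refine (show DifferentiableOn ℂ (hol f κ) {s : ℂ | θ < s.re} from
    fun z hz => (differentiableAt_hol hC hz).differentiableWithinAt).analyticAt ?_
  exact (isOpen_re θ).mem_nhds hs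

theorem analyticAt_cont (hC : ∀ x : ℝ, 1 ≤ x →
    ‖(∑ k ∈ Finset.Icc 1 ⌊x⌋₊, f k) - κ * (x : ℂ)‖ ≤ C * x ^ θ) {s : ℂ} (hs : θ < s.re)
    (h1 : s ≠ 1) : AnalyticAt ℂ (cont f κ) s := by
  have := analyticAt_hol hC hs
  have h2 : s - 1 ≠ 0 := sub_ne_zero.mpr h1
  unfold cont
  fun_prop (disch := assumption)

theorem meromorphicAt_cont (hC : ∀ x : ℝ, 1 ≤ x →
    ‖(∑ k ∈ Finset.Icc 1 ⌊x⌋₊, f k) - κ * (x : ℂ)‖ ≤ C * x ^ θ) {s : ℂ} (hs : θ < s.re) :
    MeromorphicAt (cont f κ) s := by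
  have := (analyticAt_hol hC hs).meromorphicAt
  unfold cont
  exact (MeromorphicAt.id s |>.mul this).add (((MeromorphicAt.const κ s).mul
    (MeromorphicAt.id s)).div ((MeromorphicAt.id s).sub (MeromorphicAt.const 1 s)))

theorem meromorphicOrderAt_cont (hκ : κ ≠ 0) (hC : ∀ x : ℝ, 1 ≤ x →
    ‖(∑ k ∈ Finset.Icc 1 ⌊x⌋₊, f k) - κ * (x : ℂ)‖ ≤ C * x ^ θ) (hθ : θ < 1) :
    meromorphicOrderAt (cont f κ) 1 = -1 := by
  have h1 : θ < (1 : ℂ).re := by simpa using hθ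
  rw [show (-1 : WithTop ℤ) = ((-1 : ℤ) : WithTop ℤ) from rfl,
    meromorphicOrderAt_eq_int_iff (meromorphicAt_cont hC h1)]
  refine ⟨fun s => (s - 1) * (s * hol f κ s) + κ * s, ?_, by simpa using hκ, ?_⟩
  · have := analyticAt_hol hC h1
    fun_prop
  · filter_upwards [self_mem_nhdsWithin] with s hs
    have hs1 : s - 1 ≠ 0 := sub_ne_zero.mpr hs
    rw [cont, zpow_neg_one, smul_eq_mul]
    field_simp

theorem cont_eq_LSeries (hθ0 : 0 ≤ θ) (hθ : θ < 1) (hC : ∀ x : ℝ, 1 ≤ x →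
    ‖(∑ k ∈ Finset.Icc 1 ⌊x⌋₊, f k) - κ * (x : ℂ)‖ ≤ C * x ^ θ) {s : ℂ} (hs : 1 < s.re)
    (hS : LSeriesSummable f s) : cont f κ s = LSeries f s := by
  have hO : (fun n : ℕ ↦ ∑ k ∈ Finset.Icc 1 n, f k) =O[atTop] fun n : ℕ ↦ (n : ℝ) ^ (1 : ℝ) := by
    refine IsBigO.of_bound (|C| + ‖κ‖) ?_
    filter_upwards [eventually_ge_atTop 1] with n hn
    have hn1 : (1 : ℝ) ≤ n := by exact_mod_cast hn
    have h := hC n hn1
    rw [Nat.floor_natCast] at h
    have h2 : (n : ℝ) ^ θ ≤ n := by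
      simpa using Real.rpow_le_rpow_of_exponent_le hn1 hθ.le
    have h3 : ‖∑ k ∈ Finset.Icc 1 n, f k‖ ≤
        ‖(∑ k ∈ Finset.Icc 1 n, f k) - κ * ((n : ℝ) : ℂ)‖ + ‖κ * ((n : ℝ) : ℂ)‖ := by
      simpa using norm_add_le ((∑ k ∈ Finset.Icc 1 n, f k) - κ * ((n : ℝ) : ℂ)) (κ * ((n : ℝ) : ℂ))
    rw [Real.rpow_one, Real.norm_of_nonneg (by linarith : (0 : ℝ) ≤ n)]
    refine h3.trans ?_
    rw [norm_mul, Complex.norm_real, Real.norm_of_nonneg (by linarith : (0 : ℝ) ≤ n), add_mul]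
    gcongr
    refine h.trans ?_
    calc C * (n : ℝ) ^ θ ≤ |C| * (n : ℝ) ^ θ := by
          gcongr
          exact le_abs_self C
      _ ≤ |C| * n := by gcongr
  have hre : (-s).re < -1 := by rw [Complex.neg_re]; linarith
  rw [LSeries_eq_mul_integral f zero_le_one hs hS hO]
  have hs0 : s ≠ 0 := fun h => by rw [h] at hs; simp at hs; linarith
  have hs1 : s - 1 ≠ 0 := fun h => by
    rw [sub_eq_zero.mp h] at hs; simp at hs
  -- the integral of the main term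
  have hmain : ∫ t in Ioi (1 : ℝ), κ * (t : ℂ) ^ (-s) = κ / (s - 1) := by
    rw [integral_const_mul, integral_Ioi_cpow_of_lt hre zero_lt_one]
    have h4 : -s + 1 ≠ 0 := fun h => hs1 (by linear_combination -h)
    rw [Complex.ofReal_one, Complex.one_cpow]
    field_simp
    ring
  have hint1 : IntegrableOn (fun t : ℝ => κ * (t : ℂ) ^ (-s)) (Ioi 1) :=
    (integrableOn_Ioi_cpow_of_lt hre zero_lt_one).const_mul κ
  have hol_eq : hol f κ s =
      ∫ t in Ioi (1 : ℝ), ((∑ k ∈ Finset.Icc 1 ⌊t⌋₊, f k) - κ * (t : ℂ)) * (t : ℂ) ^ (-(s + 1)) := by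
    rw [hol, mellin]
    have : ∀ t : ℝ, (t : ℂ) ^ (-s - 1) • err f κ t = (Ioi (1 : ℝ)).indicator (fun t : ℝ =>
        ((∑ k ∈ Finset.Icc 1 ⌊t⌋₊, f k) - κ * (t : ℂ)) * (t : ℂ) ^ (-(s + 1))) t := by
      intro t
      rw [err, smul_eq_mul]
      by_cases ht : t ∈ Ioi (1 : ℝ)
      · rw [indicator_of_mem ht, indicator_of_mem ht, mul_comm, neg_add, ← sub_eq_add_neg (-s)]
      · rw [indicator_of_notMem ht, indicator_of_notMem ht, mul_zero]
    simp_rw [this]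
    rw [setIntegral_indicator measurableSet_Ioi]
    congr 2
    ext t
    simp only [mem_inter_iff, mem_Ioi]
    constructor
    · exact fun h => h.2
    · exact fun h => ⟨by linarith, h⟩
  have hconv : MellinConvergent (err f κ) (-s) :=
    mellinConvergent_of_isBigO_rpow (locallyIntegrableOn_err f κ)
      (isBigO_err hC) (by rw [Complex.neg_re]; linarith) (isBigO_err_zero (-s.re - 1))
      (by rw [Complex.neg_re]; linarith)
  have hint2 : IntegrableOn (fun t : ℝ =>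
      ((∑ k ∈ Finset.Icc 1 ⌊t⌋₊, f k) - κ * (t : ℂ)) * (t : ℂ) ^ (-(s + 1))) (Ioi 1) := by
    refine IntegrableOn.congr_fun (hconv.mono_set (Ioi_subset_Ioi zero_le_one)) ?_
      measurableSet_Ioi
    intro t ht
    simp only [smul_eq_mul]
    rw [err, indicator_of_mem ht, mul_comm, neg_add, ← sub_eq_add_neg (-s)]
  have hsplit : ∫ t in Ioi (1 : ℝ), (∑ k ∈ Finset.Icc 1 ⌊t⌋₊, f k) * (t : ℂ) ^ (-(s + 1)) =
      hol f κ s + κ / (s - 1) := by
    rw [hol_eq, ← hmain, ← integral_add hint2 hint1]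
    refine setIntegral_congr_fun measurableSet_Ioi fun t ht => ?_
    have ht0 : (t : ℂ) ≠ 0 := by
      have : (0 : ℝ) < t := lt_trans zero_lt_one ht
      exact_mod_cast this.ne'
    have : (t : ℂ) ^ (-s) = t * (t : ℂ) ^ (-(s + 1)) := by
      rw [show -s = -(s + 1) + 1 by ring, Complex.cpow_add _ _ ht0, Complex.cpow_one, mul_comm]
    rw [this]
    ring
  rw [hsplit, cont]
  ring

/-- **Continuation from a power saving in the partial sums.** -/
theorem exists_continuation (hκ : κ ≠ 0) (hθ0 : 0 ≤ θ) (hθ : θ < 1) (hC : ∀ x : ℝ, 1 ≤ x →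
    ‖(∑ k ∈ Finset.Icc 1 ⌊x⌋₊, f k) - κ * (x : ℂ)‖ ≤ C * x ^ θ)
    (hS : ∀ s : ℂ, 1 < s.re → LSeriesSummable f s) :
    ∃ g : ℂ → ℂ, MeromorphicOn g {s | θ < s.re} ∧ (∀ s : ℂ, 1 < s.re → g s = LSeries f s) ∧
      meromorphicOrderAt g 1 = -1 ∧ ∀ s : ℂ, θ < s.re → s ≠ 1 → AnalyticAt ℂ g s :=
  ⟨cont f κ, fun _ hs => meromorphicAt_cont hC hs, fun _ hs => cont_eq_LSeries hθ0 hθ hC hs (hS _ hs),
    meromorphicOrderAt_cont hκ hC hθ, fun _ hs h1 => analyticAt_cont hC hs h1⟩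

end K797.Cont
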