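import Groth.Agent.Zeta.K797.Cont

set_option autoImplicit false

noncomputable section

open Set MeasureTheory Filter Asymptotics Module
open scoped Topology nonZeroDivisors
open NumberField Ideal

namespace K797.Dz

variable (K : Type*) [Field K] [NumberField K]

/-- The number of ideals of norm `n`. -/
def cnt (n : ℕ) : ℕ := Nat.card {I : Ideal (𝓞 K) // absNorm I = n}

theorem dedekindZeta_eq (s : ℂ) : dedekindZeta K s = LSeries (fun n => (cnt K n : ℂ)) s := rfl

theorem sum_cnt {x : ℝ} (hx : 0 ≤ x) :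
    ∑ k ∈ Finset.Icc 1 ⌊x⌋₊, cnt K k =
      Nat.card {I : (Ideal (𝓞 K))⁰ // absNorm (I : Ideal (𝓞 K)) ≤ x} := by
  have h0 : ∀ n : ℕ, ∑ k ∈ Finset.Icc 1 n, cnt K k =
      Nat.card {I : (Ideal (𝓞 K))⁰ // absNorm (I : Ideal (𝓞 K)) ≤ n} := by
    intro n
    unfold cnt
    rw [← add_left_inj 1, ← card_norm_le_eq_card_norm_le_add_one,
      show Finset.Icc 1 n = Finset.Ioc 0 n from Finset.Icc_succ_left_eq_Ioc _ _,
      show 1 = Nat.card {I : Ideal (𝓞 K) // absNorm I = 0} by simp [Ideal.absNorm_eq_zero_iff],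
      Finset.sum_Ioc_add_eq_sum_Icc (n.zero_le),
      ← Finset.card_preimage_eq_sum_card_image_eq (fun k _ ↦ finite_setOfPred_absNorm_eq k)]
    simp [Set.coe_eq_subtype]
  rw [h0]
  simp_rw [← Nat.le_floor_iff hx]

/-- `1 - 1 / [K : ℚ]`. -/
def th : ℝ := 1 - (finrank ℚ K : ℝ)⁻¹

theorem th_lt : th K < 1 := by
  have : 0 < finrank ℚ K := finrank_pos
  have : (0 : ℝ) < (finrank ℚ K : ℝ)⁻¹ := by positivity
  rw [th]
  linarith

theorem th_nonneg : 0 ≤ th K := by
  have h : 1 ≤ finrank ℚ K := finrank_pos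
  have h1 : (1 : ℝ) ≤ (finrank ℚ K : ℝ) := by exact_mod_cast h
  have : (finrank ℚ K : ℝ)⁻¹ ≤ 1 := inv_le_one_of_one_le₀ h1
  rw [th]
  linarith

theorem exists_bound : ∃ C : ℝ, ∀ x : ℝ, 1 ≤ x →
    ‖(∑ k ∈ Finset.Icc 1 ⌊x⌋₊, (cnt K k : ℂ)) - (dedekindZeta_residue K : ℂ) * (x : ℂ)‖ ≤
      C * x ^ th K := by
  obtain ⟨C, -, h⟩ := K797.IdealCount.card_power_saving K
  refine ⟨C, fun x hx => ?_⟩
  have h1 := h x hx
  rw [← sum_cnt K (by linarith)] at h1
  have : (∑ k ∈ Finset.Icc 1 ⌊x⌋₊, (cnt K k : ℂ)) - (dedekindZeta_residue K : ℂ) * (x : ℂ) =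
      (((∑ k ∈ Finset.Icc 1 ⌊x⌋₊, cnt K k : ℕ) : ℝ) - dedekindZeta_residue K * x : ℝ) := by
    push_cast
    rfl
  rw [this, Complex.norm_real, Real.norm_eq_abs]
  exact h1

theorem summable {s : ℂ} (hs : 1 < s.re) : LSeriesSummable (fun n => (cnt K n : ℂ)) s := by
  obtain ⟨C, h⟩ := exists_bound K
  have := LSeriesSummable_of_sum_norm_bigO_and_nonneg (f := fun n => (cnt K n : ℝ)) (r := 1)
    (s := s) ?_ (fun n => Nat.cast_nonneg _) zero_le_one hs
  · simpa using this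
  · refine IsBigO.of_bound (|C| + |dedekindZeta_residue K|) ?_
    filter_upwards [eventually_ge_atTop 1] with n hn
    have hn1 : (1 : ℝ) ≤ n := by exact_mod_cast hn
    have h1 := h n hn1
    rw [Nat.floor_natCast] at h1
    have h2 : (n : ℝ) ^ th K ≤ n := by
      simpa using Real.rpow_le_rpow_of_exponent_le hn1 (th_lt K).le
    have e : (∑ k ∈ Finset.Icc 1 n, (cnt K k : ℂ)) - (dedekindZeta_residue K : ℂ) * ((n : ℝ) : ℂ) =
      ((∑ k ∈ Finset.Icc 1 n, (cnt K k : ℝ)) - dedekindZeta_residue K * n : ℝ) := by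
      push_cast
      rfl
    rw [e, Complex.norm_real, Real.norm_eq_abs] at h1
    rw [Real.rpow_one, Real.norm_eq_abs, Real.norm_of_nonneg (by linarith : (0 : ℝ) ≤ n)]
    calc |∑ k ∈ Finset.Icc 1 n, (cnt K k : ℝ)|
        = |((∑ k ∈ Finset.Icc 1 n, (cnt K k : ℝ)) - dedekindZeta_residue K * n) +
            dedekindZeta_residue K * n| := by rw [sub_add_cancel]
      _ ≤ |(∑ k ∈ Finset.Icc 1 n, (cnt K k : ℝ)) - dedekindZeta_residue K * n| +
            |dedekindZeta_residue K * n| := abs_add_le _ _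
      _ ≤ C * (n : ℝ) ^ th K + |dedekindZeta_residue K| * n := by
          rw [abs_mul, abs_of_nonneg (by linarith : (0 : ℝ) ≤ n)]
          gcongr
      _ ≤ |C| * (n : ℝ) ^ th K + |dedekindZeta_residue K| * n := by
          gcongr
          exact le_abs_self C
      _ ≤ |C| * n + |dedekindZeta_residue K| * n := by gcongr
      _ = _ := by ring

/-- **Meromorphic continuation of the Dedekind zeta function to `Re s > 1 - 1 / [K : ℚ]`**, with a
single pole, simple, at `s = 1`. -/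
theorem exists_continuation :
    ∃ g : ℂ → ℂ, MeromorphicOn g {s | th K < s.re} ∧
      (∀ s : ℂ, 1 < s.re → g s = dedekindZeta K s) ∧
      meromorphicOrderAt g 1 = -1 ∧ ∀ s : ℂ, th K < s.re → s ≠ 1 → AnalyticAt ℂ g s := by
  obtain ⟨C, h⟩ := exists_bound K
  exact K797.Cont.exists_continuation (by exact_mod_cast dedekindZeta_residue_ne_zero K)
    (th_nonneg K) (th_lt K) h (fun s hs => summable K hs)

end K797.Dz
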