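import Groth.Agent.Zeta.K797.Thin
import Mathlib.Algebra.Module.ZLattice.Covolume
import Mathlib.MeasureTheory.Measure.Haar.NormedSpace
import Mathlib.Analysis.Normed.Affine.Convex

set_option autoImplicit false

open Set MeasureTheory Module
open scoped NNReal ENNReal Pointwise

namespace K797.Lattice

open K797.Thin

variable {E : Type*} [NormedAddCommGroup E] [NormedSpace ℝ E]

/-- A point of `T` and a point outside `T` at distance `≤ D`: the outside point is `D`-close to the
frontier. -/
theorem mem_nb_frontier {T : Set E} {D : ℝ} {v y : E} (hv : v ∈ T) (hy : y ∉ T)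
    (hd : dist v y ≤ D) : y ∈ nb D (frontier T) ∧ v ∈ nb D (frontier T) := by
  have hpc : IsPreconnected (segment ℝ v y) := (convex_segment v y).isPreconnected
  have h1 : (segment ℝ v y ∩ T).Nonempty := ⟨v, left_mem_segment _ _ _, hv⟩
  have h2 : (segment ℝ v y ∩ Tᶜ).Nonempty := ⟨y, right_mem_segment _ _ _, hy⟩
  obtain ⟨z, hz, hzf⟩ : (segment ℝ v y ∩ frontier T).Nonempty := by
    by_contra hne
    rw [Set.not_nonempty_iff_eq_empty] at hne
    have hsub : segment ℝ v y ⊆ interior T ∪ interior Tᶜ := by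
      intro z hz
      by_contra hz2
      rw [mem_union, not_or] at hz2
      have : z ∈ segment ℝ v y ∩ frontier T := by
        refine ⟨hz, ?_, hz2.1⟩
        rw [closure_eq_compl_interior_compl]
        exact hz2.2
      rw [hne] at this
      exact this
    have h1' : (segment ℝ v y ∩ interior T).Nonempty := by
      refine ⟨v, left_mem_segment _ _ _, ?_⟩
      rcases hsub (left_mem_segment _ _ _) with h | h
      · exact h
      · exact absurd hv (interior_subset h)
    have h2' : (segment ℝ v y ∩ interior Tᶜ).Nonempty := by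
      refine ⟨y, right_mem_segment _ _ _, ?_⟩
      rcases hsub (right_mem_segment _ _ _) with h | h
      · exact absurd (interior_subset h) hy
      · exact h
    obtain ⟨z, _, hz1, hz2⟩ := hpc _ _ isOpen_interior isOpen_interior hsub h1' h2'
    exact (interior_subset hz2) (interior_subset hz1)
  have h6 := dist_add_dist_of_mem_segment hz
  have h3 : dist y z ≤ dist v y := by
    have h4 : dist y z = dist z y := dist_comm _ _
    rw [h4]; linarith [dist_nonneg (x := v) (y := z)]
  have h5 : dist v z ≤ dist v y := by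
    linarith [dist_nonneg (x := z) (y := y)]
  exact ⟨⟨z, hzf, h3.trans hd⟩, ⟨z, hzf, h5.trans hd⟩⟩

variable {ι : Type*} [Fintype ι] (b : Basis ι ℝ E)

omit [Fintype ι] in
theorem mem_nb_add {T : Set E} {D : ℝ} (hD : ∀ x ∈ ZSpan.fundamentalDomain b, ‖x‖ ≤ D) {v f : E}
    (hf : f ∈ ZSpan.fundamentalDomain b) (h : ¬ (v ∈ T ↔ v + f ∈ T)) :
    v + f ∈ nb D (frontier T) := by
  have hd : dist v (v + f) ≤ D := by
    rw [dist_eq_norm]; simpa using hD f hf
  by_cases hv : v ∈ T
  · have hy : v + f ∉ T := fun hy => h ⟨fun _ => hy, fun _ => hv⟩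
    exact (mem_nb_frontier hv hy hd).1
  · have hy : v + f ∈ T := by
      by_contra hy
      exact h ⟨fun h' => absurd h' hv, fun h' => absurd h' hy⟩
    exact (mem_nb_frontier hy hv (by rwa [dist_comm])).2

variable [FiniteDimensional ℝ E] [MeasurableSpace E] [BorelSpace E]

theorem card_mul_le (μ : Measure E) [μ.IsAddHaarMeasure] {T : Set E} {D : ℝ}
    (hD : ∀ x ∈ ZSpan.fundamentalDomain b, ‖x‖ ≤ D)
    (hfin : (T ∩ (Submodule.span ℤ (Set.range b) : Set E)).Finite) :
    (Nat.card ↥(T ∩ (Submodule.span ℤ (Set.range b) : Set E)) : ℝ≥0∞) *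
      μ (ZSpan.fundamentalDomain b) ≤ μ T + μ (nb D (frontier T)) := by
  classical
  have hFD := ZSpan.isAddFundamentalDomain b μ
  set s := T ∩ (Submodule.span ℤ (Set.range b) : Set E) with hs
  have : Fintype s := hfin.fintype
  have hsub : (⋃ v : s, (fun x => (v : E) + x) '' (ZSpan.fundamentalDomain b)) ⊆
      T ∪ nb D (frontier T) := by
    intro y hy
    rw [mem_iUnion] at hy
    obtain ⟨⟨v, hv⟩, f, hf, rfl⟩ := hy
    by_cases h : (v + f) ∈ T
    · exact Or.inl h
    · exact Or.inr (mem_nb_add b hD hf fun h' => h (h'.1 hv.1))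
  have hmeas : ∀ v : s, MeasurableSet ((fun x => (v : E) + x) '' (ZSpan.fundamentalDomain b)) :=
    fun v => (Homeomorph.addLeft (v : E)).toMeasurableEquiv.measurableSet_image.mpr
      (ZSpan.fundamentalDomain_measurableSet b)
  have hdisj : Pairwise (Function.onFun Disjoint
      fun v : s => (fun x => (v : E) + x) '' (ZSpan.fundamentalDomain b)) := by
    intro v w hvw
    rw [Function.onFun, Set.disjoint_left]
    rintro y ⟨f, hf, rfl⟩ ⟨g, hg, hfg⟩
    apply hvw
    have h1 : ZSpan.fract b ((v : E) + f) = ZSpan.fract b f :=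
      ZSpan.fract_zSpan_add b f v.2.2
    have h2 : ZSpan.fract b ((w : E) + g) = ZSpan.fract b g :=
      ZSpan.fract_zSpan_add b g w.2.2
    rw [(ZSpan.fract_eq_self (b := b)).2 hf] at h1
    rw [(ZSpan.fract_eq_self (b := b)).2 hg] at h2
    have h3 : f = g := by rw [← h1, ← h2]; exact congrArg _ hfg.symm
    have h4 : (w : E) + g = v + f := hfg
    rw [h3] at h4
    exact Subtype.ext (add_right_cancel h4).symm
  calc (Nat.card s : ℝ≥0∞) * μ (ZSpan.fundamentalDomain b)
      = ∑ v : s, μ ((fun x => (v : E) + x) '' (ZSpan.fundamentalDomain b)) := by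
        simp only [Set.image_add_left, measure_preimage_add, Finset.sum_const, Finset.card_univ,
          nsmul_eq_mul, Nat.card_eq_fintype_card]
    _ = μ (⋃ v : s, (fun x => (v : E) + x) '' (ZSpan.fundamentalDomain b)) := by
        rw [measure_iUnion hdisj hmeas, tsum_fintype]
    _ ≤ μ (T ∪ nb D (frontier T)) := measure_mono hsub
    _ ≤ _ := measure_union_le _ _

theorem le_card_mul (μ : Measure E) [μ.IsAddHaarMeasure] {T : Set E} {D : ℝ}
    (hD : ∀ x ∈ ZSpan.fundamentalDomain b, ‖x‖ ≤ D)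
    (hfin : (T ∩ (Submodule.span ℤ (Set.range b) : Set E)).Finite) :
    μ T ≤ (Nat.card ↥(T ∩ (Submodule.span ℤ (Set.range b) : Set E)) : ℝ≥0∞) *
      μ (ZSpan.fundamentalDomain b) + μ (nb D (frontier T)) := by
  classical
  set s := T ∩ (Submodule.span ℤ (Set.range b) : Set E) with hs
  have : Fintype s := hfin.fintype
  have hsub : T ⊆ (⋃ v : s, (fun x => (v : E) + x) '' (ZSpan.fundamentalDomain b)) ∪
      nb D (frontier T) := by
    intro y hy
    have hyf : y = (ZSpan.floor b y : E) + ZSpan.fract b y := by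
      rw [ZSpan.fract_apply]; abel
    by_cases h : (ZSpan.floor b y : E) ∈ T
    · refine Or.inl ?_
      rw [mem_iUnion]
      exact ⟨⟨_, h, (ZSpan.floor b y).2⟩, ZSpan.fract b y, ZSpan.fract_mem_fundamentalDomain b y,
        hyf.symm⟩
    · refine Or.inr ?_
      rw [hyf]
      refine mem_nb_add b hD (ZSpan.fract_mem_fundamentalDomain b y) fun h' => h (h'.2 ?_)
      rw [← hyf]; exact hy
  refine (measure_mono hsub).trans ((measure_union_le _ _).trans ?_)
  gcongr
  refine (measure_iUnion_fintype_le _ _).trans ?_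
  simp only [Set.image_add_left, measure_preimage_add, Finset.sum_const, Finset.card_univ,
          nsmul_eq_mul, Nat.card_eq_fintype_card, le_refl]

omit [MeasurableSpace E] [BorelSpace E] [FiniteDimensional ℝ E] in
theorem nb_smul {A : Set E} {D t : ℝ} (ht : 0 < t) : nb D (t • A) = t • nb (D / t) A := by
  ext y
  rw [Set.mem_smul_set_iff_inv_smul_mem₀ ht.ne']
  constructor
  · rintro ⟨_, ⟨z, hz, rfl⟩, hd⟩
    refine ⟨z, hz, ?_⟩
    rw [le_div_iff₀ ht]
    have h1 : dist y (t • z) = t * dist (t⁻¹ • y) z := by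
      have h2 : y = t • (t⁻¹ • y) := (smul_inv_smul₀ ht.ne' y).symm
      rw [h2, dist_smul₀, Real.norm_of_nonneg ht.le, ← h2]
    have h3 : dist y (t • z) ≤ D := hd
    rw [h1] at h3
    linarith
  · rintro ⟨z, hz, hd⟩
    refine ⟨t • z, ⟨z, hz, rfl⟩, ?_⟩
    rw [le_div_iff₀ ht] at hd
    have h1 : dist y (t • z) = t * dist (t⁻¹ • y) z := by
      have h2 : y = t • (t⁻¹ • y) := (smul_inv_smul₀ ht.ne' y).symm
      rw [h2, dist_smul₀, Real.norm_of_nonneg ht.le, ← h2]
    rw [h1]; linarith

omit [MeasurableSpace E] [BorelSpace E] [FiniteDimensional ℝ E] in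
theorem frontier_smul {A : Set E} {t : ℝ} (ht : 0 < t) : frontier (t • A) = t • frontier A := by
  have := (Homeomorph.smulOfNeZero t ht.ne').image_frontier A
  simpa [Set.image_smul] using this.symm

omit [MeasurableSpace E] [BorelSpace E] [NormedSpace ℝ E] [FiniteDimensional ℝ E] in
theorem nb_isBounded {A : Set E} {D : ℝ} (hA : Bornology.IsBounded A) :
    Bornology.IsBounded (nb D A) := by
  obtain ⟨R, hR⟩ := hA.exists_norm_le
  rw [isBounded_iff_forall_norm_le]
  refine ⟨D + R, ?_⟩
  rintro y ⟨z, hz, hd⟩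
  have h1 : ‖y‖ ≤ ‖y - z‖ + ‖z‖ := by
    have := norm_add_le (y - z) z
    simpa using this
  rw [dist_eq_norm] at hd
  linarith [hR z hz]

/-- Lattice points in `t • S` with power saving, when the `δ`-neighbourhoods of the frontier of `S`
have measure `O(δ)`. -/
theorem power_saving (μ : Measure E) [μ.IsAddHaarMeasure] {S : Set E}
    (hS : Bornology.IsBounded S) {C : ℝ} (hC : 0 ≤ C)
    (hthin : ∀ δ : ℝ, 0 < δ → δ ≤ 1 → μ (nb δ (frontier S)) ≤ ENNReal.ofReal (C * δ))
    (hn : 0 < finrank ℝ E) :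
    ∃ C' : ℝ, 0 ≤ C' ∧ ∀ t : ℝ, 1 ≤ t →
      |(Nat.card ↥(t • S ∩ (Submodule.span ℤ (Set.range b) : Set E)) : ℝ) -
        (μ.real S / μ.real (ZSpan.fundamentalDomain b)) * t ^ finrank ℝ E| ≤
        C' * t ^ (finrank ℝ E - 1) := by
  classical
  obtain ⟨D, hD⟩ := (ZSpan.fundamentalDomain_isBounded b).exists_norm_le
  have hD0 : 0 ≤ D := by
    have h0 := hD (ZSpan.fract b 0) (ZSpan.fract_mem_fundamentalDomain b 0)
    exact (norm_nonneg _).trans h0
  have hFb := ZSpan.fundamentalDomain_isBounded b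
  set F := ZSpan.fundamentalDomain b with hF
  have hF0 : μ F ≠ 0 := ZSpan.measure_fundamentalDomain_ne_zero b
  have hFtop : μ F ≠ ⊤ := hFb.measure_lt_top.ne
  have hFr : 0 < μ.real F := ENNReal.toReal_pos hF0 hFtop
  have hStop : μ S ≠ ⊤ := hS.measure_lt_top.ne
  have hfr : Bornology.IsBounded (frontier S) :=
    hS.closure.subset frontier_subset_closure
  have hM : μ (nb (D + 1) (frontier S)) ≠ ⊤ := (nb_isBounded hfr).measure_lt_top.ne
  set M := μ.real (nb (D + 1) (frontier S)) with hMdef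
  have hM0 : 0 ≤ M := ENNReal.toReal_nonneg
  -- bound of the neighbourhood for t ≥ 1
  have hnb : ∀ t : ℝ, 1 ≤ t → μ (nb (D / t) (frontier S)) ≤
      ENNReal.ofReal ((C + M) * ((D + 1) / t)) := by
    intro t ht
    have ht0 : 0 < t := by linarith
    by_cases h1 : (D + 1) / t ≤ 1
    · refine (measure_mono (nb_mono (δ' := (D + 1) / t) ?_ subset_rfl)).trans ?_
      · gcongr; linarith
      · refine (hthin _ (by positivity) h1).trans (ENNReal.ofReal_le_ofReal ?_)
        gcongr; linarith
    · push Not at h1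
      refine (measure_mono (nb_mono (δ' := D + 1) ?_ subset_rfl)).trans ?_
      · rw [div_le_iff₀ ht0]; nlinarith
      · rw [← ENNReal.ofReal_toReal hM]
        refine ENNReal.ofReal_le_ofReal ?_
        change M ≤ _
        nlinarith
  refine ⟨(C + M) * (D + 1) / μ.real F, by positivity, fun t ht => ?_⟩
  have ht0 : 0 < t := by linarith
  have hT : Bornology.IsBounded (t • S) := hS.smul₀ t
  have hfin : (t • S ∩ (Submodule.span ℤ (Set.range b) : Set E)).Finite :=
    ZSpan.setFinite_inter b hT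
  have h1 := card_mul_le b μ hD hfin
  have h2 := le_card_mul b μ hD hfin
  rw [frontier_smul ht0, nb_smul ht0, Measure.addHaar_smul, Measure.addHaar_smul,
    abs_of_nonneg (by positivity)] at h1 h2
  set N := Nat.card ↥(t • S ∩ (Submodule.span ℤ (Set.range b) : Set E)) with hN
  set n := finrank ℝ E with hndef
  have hNB : μ (nb (D / t) (frontier S)) ≠ ⊤ := ((hnb t ht).trans_lt ENNReal.ofReal_lt_top).ne
  have hnbr : μ.real (nb (D / t) (frontier S)) ≤ (C + M) * ((D + 1) / t) :=
    ENNReal.toReal_le_of_le_ofReal (by positivity) (hnb t ht)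
  have e1 : (N : ℝ) * μ.real F ≤ t ^ n * μ.real S + t ^ n * μ.real (nb (D / t) (frontier S)) := by
    have := ENNReal.toReal_mono (ENNReal.add_ne_top.2 ⟨ENNReal.mul_ne_top ENNReal.ofReal_ne_top
      hStop, ENNReal.mul_ne_top ENNReal.ofReal_ne_top hNB⟩) h1
    rwa [ENNReal.toReal_add (ENNReal.mul_ne_top ENNReal.ofReal_ne_top hStop)
      (ENNReal.mul_ne_top ENNReal.ofReal_ne_top hNB), ENNReal.toReal_mul, ENNReal.toReal_mul,
      ENNReal.toReal_mul, ENNReal.toReal_natCast, ENNReal.toReal_ofReal (by positivity)] at this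
  have e2 : t ^ n * μ.real S ≤ (N : ℝ) * μ.real F + t ^ n * μ.real (nb (D / t) (frontier S)) := by
    have hNF : (N : ℝ≥0∞) * μ F ≠ ⊤ := ENNReal.mul_ne_top (ENNReal.natCast_ne_top _) hFtop
    have := ENNReal.toReal_mono (ENNReal.add_ne_top.2 ⟨hNF,
      ENNReal.mul_ne_top ENNReal.ofReal_ne_top hNB⟩) h2
    rwa [ENNReal.toReal_add hNF
      (ENNReal.mul_ne_top ENNReal.ofReal_ne_top hNB), ENNReal.toReal_mul, ENNReal.toReal_mul,
      ENNReal.toReal_mul, ENNReal.toReal_natCast, ENNReal.toReal_ofReal (by positivity)] at this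
  have e3 : t ^ n * μ.real (nb (D / t) (frontier S)) ≤ (C + M) * (D + 1) * t ^ (n - 1) := by
    calc t ^ n * μ.real (nb (D / t) (frontier S)) ≤ t ^ n * ((C + M) * ((D + 1) / t)) := by gcongr
      _ = (C + M) * (D + 1) * t ^ (n - 1) := by
        obtain ⟨m, hm⟩ : ∃ m, n = m + 1 := ⟨n - 1, by omega⟩
        rw [hm, Nat.add_sub_cancel, pow_succ]
        field_simp
  have e4 : |(N : ℝ) * μ.real F - t ^ n * μ.real S| ≤ (C + M) * (D + 1) * t ^ (n - 1) := by
    rw [abs_le]; constructor <;> linarith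
  have e5 : (N : ℝ) - (μ.real S / μ.real F) * t ^ n =
      ((N : ℝ) * μ.real F - t ^ n * μ.real S) / μ.real F := by
    field_simp
  rw [e5, abs_div, abs_of_pos hFr, div_le_iff₀ hFr]
  refine e4.trans (le_of_eq ?_)
  field_simp

end K797.Lattice
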