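import Groth.Agent.Zeta.K797.Cone
import Groth.Agent.Zeta.K797.Lattice
import Mathlib.NumberTheory.NumberField.DedekindZeta

set_option autoImplicit false

noncomputable section

open Set MeasureTheory Module
open scoped NNReal ENNReal Pointwise nonZeroDivisors
open NumberField NumberField.InfinitePlace NumberField.mixedEmbedding
open NumberField.mixedEmbedding.fundamentalCone NumberField.Units Ideal

namespace K797.IdealCount

variable (K : Type*) [Field K] [NumberField K]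

theorem setOf_norm_le {s : ℝ} (hs : 0 < s) :
    {x : mixedSpace K | x ∈ fundamentalCone K ∧ mixedEmbedding.norm x ≤ s} =
      (s ^ ((finrank ℚ K : ℝ)⁻¹)) • normLeOne K := by
  have hn : (finrank ℚ K : ℝ) ≠ 0 := Nat.cast_ne_zero.mpr finrank_pos.ne'
  have hc : 0 < s ^ ((finrank ℚ K : ℝ)⁻¹) := Real.rpow_pos_of_pos hs _
  have hcn : (s ^ ((finrank ℚ K : ℝ)⁻¹)) ^ finrank ℚ K = s :=
    Real.rpow_inv_natCast_pow hs.le finrank_pos.ne'
  ext x
  rw [mem_smul_set_iff_inv_smul_mem₀ hc.ne', mem_ofPred_eq, mem_normLeOne,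
    smul_mem_iff_mem (inv_ne_zero hc.ne'), mixedEmbedding.norm_smul, abs_of_pos (inv_pos.mpr hc),
    inv_pow, hcn, inv_mul_le_iff₀ hs, mul_one]

variable {K}
variable {C : ClassGroup (𝓞 K)} {J : (Ideal (𝓞 K))⁰} {s : ℝ}

theorem card_class_eq (hJ : ClassGroup.mk0 J = C⁻¹) :
    Nat.card {I : (Ideal (𝓞 K))⁰ // absNorm (I : Ideal (𝓞 K)) ≤ s ∧ ClassGroup.mk0 I = C}
      = Nat.card {I : (Ideal (𝓞 K))⁰ // (J : Ideal (𝓞 K)) ∣ I ∧ Submodule.IsPrincipal (I : Ideal (𝓞 K)) ∧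
        absNorm (I : Ideal (𝓞 K)) ≤ s * absNorm (J : Ideal (𝓞 K))} := by
  simp_rw [← nonZeroDivisors_dvd_iff_dvd_coe]
  refine Nat.card_congr ?_
  refine ((Equiv.dvd J).subtypeEquiv fun I ↦ ?_).trans
    (Equiv.subtypeSubtypeEquivSubtypeInter (fun I : (Ideal (𝓞 K))⁰ ↦ J ∣ I) _)
  rw [← ClassGroup.mk0_eq_one_iff (SetLike.coe_mem _)]
  simp_rw [Equiv.dvd_apply, Submonoid.coe_mul, ← Submonoid.mul_def, _root_.map_mul, hJ,
    inv_mul_eq_one, Nat.cast_mul, mul_comm s, eq_comm, and_comm, and_congr_left_iff]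
  exact fun _ ↦
    (mul_le_mul_iff_of_pos_left (Nat.cast_pos.mpr (absNorm_pos_of_nonZeroDivisors J))).symm

/-- The points of the ideal lattice in the cone of norm at most `s` are the lattice points of a
homothetic copy of `normLeOne K`. -/
theorem card_idealSet_eq (hs : 0 < s) :
    Nat.card {a : idealSet K J // mixedEmbedding.norm (a : mixedSpace K) ≤ s} =
      Nat.card ↥((s ^ ((finrank ℚ K : ℝ)⁻¹)) • normLeOne K ∩
        (Submodule.span ℤ (Set.range (fractionalIdealLatticeBasis K (FractionalIdeal.mk0 K J))) :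
          Set (mixedSpace K))) := by
  rw [← setOf_norm_le K hs, span_idealLatticeBasis]
  refine Nat.card_congr ((Equiv.subtypeSubtypeEquivSubtypeInter (· ∈ idealSet K J)
    (mixedEmbedding.norm · ≤ s)).trans (Equiv.subtypeEquivProp ?_))
  funext x
  simp only [idealSet, mem_inter_iff, mem_ofPred_eq, SetLike.mem_coe, eq_iff_iff]
  tauto

variable (C)

theorem card_class_power_saving :
    ∃ κ C' : ℝ, 0 ≤ C' ∧ ∀ s : ℝ, 1 ≤ s →
      |(Nat.card {I : (Ideal (𝓞 K))⁰ //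
        absNorm (I : Ideal (𝓞 K)) ≤ s ∧ ClassGroup.mk0 I = C} : ℝ) - κ * s| ≤
        C' * s ^ (1 - (finrank ℚ K : ℝ)⁻¹) := by
  classical
  obtain ⟨J, hJ⟩ := ClassGroup.mk0_surjective C⁻¹
  have hNJ : 1 ≤ (absNorm (J : Ideal (𝓞 K)) : ℝ) := by
    exact_mod_cast absNorm_pos_of_nonZeroDivisors J
  have hw : 0 < (torsionOrder K : ℝ) := Nat.cast_pos.mpr (torsionOrder_pos K)
  obtain ⟨A, hA, hthin⟩ := K797.Cone.volume_nb_frontier K
  have hn : 0 < finrank ℚ K := finrank_pos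
  have hn' : (finrank ℚ K : ℝ) ≠ 0 := Nat.cast_ne_zero.mpr hn.ne'
  obtain ⟨B, hB, hcard⟩ := K797.Lattice.power_saving
    (fractionalIdealLatticeBasis K (FractionalIdeal.mk0 K J)) volume (isBounded_normLeOne K) hA
    hthin (by rw [mixedEmbedding.finrank]; exact hn)
  rw [mixedEmbedding.finrank] at hcard
  set V : ℝ := volume.real (normLeOne K) / volume.real (ZSpan.fundamentalDomain
    (fractionalIdealLatticeBasis K (FractionalIdeal.mk0 K J))) with hV
  set N : ℝ := (absNorm (J : Ideal (𝓞 K)) : ℝ) with hN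
  refine ⟨(torsionOrder K : ℝ)⁻¹ * V * N,
    (torsionOrder K : ℝ)⁻¹ * (B * N ^ (1 - (finrank ℚ K : ℝ)⁻¹)), by positivity, fun s hs => ?_⟩
  have hs0 : 0 < s := by linarith
  have hsN : 0 < s * N := by positivity
  have hsN1 : 1 ≤ s * N := by nlinarith
  have h1 := hcard ((s * N) ^ ((finrank ℚ K : ℝ)⁻¹)) (Real.one_le_rpow hsN1 (by positivity))
  rw [← card_idealSet_eq hsN, ← card_isPrincipal_dvd_norm_le, ← card_class_eq hJ,
    Real.rpow_inv_natCast_pow hsN.le hn.ne', ← Real.rpow_natCast, ← Real.rpow_mul hsN.le,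
    Nat.cast_sub hn, Nat.cast_one, mul_sub, inv_mul_cancel₀ hn', mul_one,
    Real.mul_rpow hs0.le (by positivity)] at h1
  push_cast at h1
  set X : ℝ := (Nat.card {I : (Ideal (𝓞 K))⁰ //
        absNorm (I : Ideal (𝓞 K)) ≤ s ∧ ClassGroup.mk0 I = C} : ℝ) with hX
  have h2 : X - (torsionOrder K : ℝ)⁻¹ * V * N * s =
      (torsionOrder K : ℝ)⁻¹ * (X * torsionOrder K - V * (s * N)) := by
    field_simp
  rw [h2, abs_mul, abs_of_pos (inv_pos.mpr hw)]
  calc (torsionOrder K : ℝ)⁻¹ * |X * torsionOrder K - V * (s * N)|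
      ≤ (torsionOrder K : ℝ)⁻¹ * (B * (s ^ (1 - (finrank ℚ K : ℝ)⁻¹) *
        N ^ (1 - (finrank ℚ K : ℝ)⁻¹))) := by gcongr
    _ = _ := by ring

variable (K)

theorem card_power_saving_aux :
    ∃ κ C' : ℝ, 0 ≤ C' ∧ ∀ s : ℝ, 1 ≤ s →
      |(Nat.card {I : (Ideal (𝓞 K))⁰ // absNorm (I : Ideal (𝓞 K)) ≤ s} : ℝ) - κ * s| ≤
        C' * s ^ (1 - (finrank ℚ K : ℝ)⁻¹) := by
  classical
  choose κ C' hC' h using fun C : ClassGroup (𝓞 K) => card_class_power_saving C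
  refine ⟨∑ C, κ C, ∑ C, C' C, Finset.sum_nonneg fun C _ => hC' C, fun s hs => ?_⟩
  have key : (Nat.card {I : (Ideal (𝓞 K))⁰ // absNorm (I : Ideal (𝓞 K)) ≤ s} : ℝ) =
      ∑ C : ClassGroup (𝓞 K), (Nat.card {I : (Ideal (𝓞 K))⁰ //
        absNorm (I : Ideal (𝓞 K)) ≤ s ∧ ClassGroup.mk0 I = C} : ℝ) := by
    have hs0 : 0 ≤ s := by linarith
    have : Fintype {I : (Ideal (𝓞 K))⁰ // absNorm (I : Ideal (𝓞 K)) ≤ s} := by
      simp_rw [← Nat.le_floor_iff hs0]
      refine @Fintype.ofFinite _ (finite_setOfPred_absNorm_le₀ ⌊s⌋₊)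
    let e := fun C : ClassGroup (𝓞 K) ↦ Equiv.subtypeSubtypeEquivSubtypeInter
      (fun I : (Ideal (𝓞 K))⁰ ↦ absNorm I.1 ≤ s) (fun I ↦ ClassGroup.mk0 I = C)
    simp_rw [← Nat.card_congr (e _), Nat.card_eq_fintype_card, Fintype.subtype_card]
    rw [Fintype.card, Finset.card_eq_sum_card_fiberwise (f := fun I ↦ ClassGroup.mk0 I.1)
      (t := Finset.univ) (fun _ _ ↦ Finset.mem_univ _), Nat.cast_sum]
  rw [key, Finset.sum_mul, Finset.sum_mul, ← Finset.sum_sub_distrib]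
  exact (Finset.abs_sum_le_sum_abs _ _).trans (Finset.sum_le_sum fun C _ => h C s hs)

/-- The number of nonzero ideals of norm at most `s` is `κ s + O(s ^ (1 - 1 / n))`. -/
theorem card_power_saving :
    ∃ C' : ℝ, 0 ≤ C' ∧ ∀ s : ℝ, 1 ≤ s →
      |(Nat.card {I : (Ideal (𝓞 K))⁰ // absNorm (I : Ideal (𝓞 K)) ≤ s} : ℝ) -
        dedekindZeta_residue K * s| ≤ C' * s ^ (1 - (finrank ℚ K : ℝ)⁻¹) := by
  obtain ⟨κ, C', hC', h⟩ := card_power_saving_aux K
  have hκ : κ = dedekindZeta_residue K := by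
    refine tendsto_nhds_unique (f := fun s : ℝ =>
      (Nat.card {I : (Ideal (𝓞 K))⁰ // absNorm (I : Ideal (𝓞 K)) ≤ s} : ℝ) / s)
      (l := Filter.atTop) ?_ (NumberField.Ideal.tendsto_norm_le_div_atTop₀ K)
    rw [tendsto_iff_dist_tendsto_zero]
    have hlim : Filter.Tendsto (fun s : ℝ => C' * s ^ (-(finrank ℚ K : ℝ)⁻¹)) Filter.atTop
        (nhds 0) := by
      have := (tendsto_rpow_neg_atTop (y := (finrank ℚ K : ℝ)⁻¹)
        (by have : 0 < finrank ℚ K := finrank_pos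
            positivity)).const_mul C'
      simpa using this
    refine squeeze_zero' (Filter.Eventually.of_forall fun s => dist_nonneg) ?_ hlim
    filter_upwards [Filter.eventually_ge_atTop (1 : ℝ)] with s hs
    have hs0 : 0 < s := by linarith
    have h1 := h s hs
    rw [Real.dist_eq]
    have h2 : (Nat.card {I : (Ideal (𝓞 K))⁰ // absNorm (I : Ideal (𝓞 K)) ≤ s} : ℝ) / s - κ =
      ((Nat.card {I : (Ideal (𝓞 K))⁰ // absNorm (I : Ideal (𝓞 K)) ≤ s} : ℝ) - κ * s) / s := by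
      field_simp
    rw [h2, abs_div, abs_of_pos hs0, div_le_iff₀ hs0, mul_assoc, ← Real.rpow_add_one hs0.ne']
    rw [neg_add_eq_sub]
    exact h1
  exact ⟨C', hC', by simpa only [hκ] using h⟩

end K797.IdealCount
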