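import Mathlib.MeasureTheory.Measure.Lebesgue.Basic
import Mathlib.Topology.MetricSpace.Lipschitz

set_option autoImplicit false

open Set MeasureTheory
open scoped NNReal ENNReal

namespace K797.Thin

/-- The closed `δ`-neighbourhood (with attained distance). -/
def nb {X : Type*} [PseudoMetricSpace X] (δ : ℝ) (A : Set X) : Set X :=
  {y | ∃ z ∈ A, dist y z ≤ δ}

theorem nb_mono {X : Type*} [PseudoMetricSpace X] {δ δ' : ℝ} {A A' : Set X} (h : δ ≤ δ')
    (hA : A ⊆ A') : nb δ A ⊆ nb δ' A' := by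
  rintro y ⟨z, hz, hd⟩
  exact ⟨z, hA hz, hd.trans h⟩

theorem nb_iUnion {X : Type*} {ι : Sort*} [PseudoMetricSpace X] (δ : ℝ) (A : ι → Set X) :
    nb δ (⋃ i, A i) = ⋃ i, nb δ (A i) := by
  ext y
  simp only [nb, mem_iUnion, mem_ofPred_eq]
  constructor
  · rintro ⟨z, ⟨i, hi⟩, hd⟩
    exact ⟨i, z, hi, hd⟩
  · rintro ⟨i, z, hi, hd⟩
    exact ⟨z, ⟨i, hi⟩, hd⟩

/-- the unit cube -/
def cube (ι : Type*) : Set (ι → ℝ) := Set.univ.pi fun _ => Icc 0 1

/-- A face of the unit cube. -/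
def face {ι : Type*} (w : ι) (a : ℝ) : Set (ι → ℝ) := {z | z ∈ cube ι ∧ z w = a}

theorem volume_nb_image_face {ι : Type*} [Fintype ι] (Φ : (ι → ℝ) → (ι → ℝ)) (L : ℝ≥0)
    (hΦ : LipschitzOnWith L Φ (cube ι)) (w : ι) (a : ℝ) (ha : a ∈ Icc (0 : ℝ) 1) :
    ∃ C : ℝ, 0 ≤ C ∧ ∀ δ : ℝ, 0 < δ → δ ≤ 1 →
      volume (nb δ (Φ '' face w a)) ≤ ENNReal.ofReal (C * δ) := by
  classical
  refine ⟨3 ^ (Fintype.card {j : ι // j ≠ w}) * (2 * (L + 1)) ^ (Fintype.card ι), by positivity,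
    fun δ hδ hδ1 => ?_⟩
  set N : ℕ := ⌈1 / δ⌉₊ with hN
  have hN1 : 1 / δ ≤ N := Nat.le_ceil _
  have hNpos : (0 : ℝ) < N := lt_of_lt_of_le (by positivity) hN1
  have hN2 : (N : ℝ) + 1 ≤ 3 / δ := by
    have h1 : (N : ℝ) < 1 / δ + 1 := Nat.ceil_lt_add_one (by positivity)
    have h2 : 1 ≤ 1 / δ := by rw [le_div_iff₀ hδ]; linarith
    have h3 : 3 / δ = 1 / δ + 1 / δ + 1 / δ := by ring
    rw [h3]; linarith
  have hN3 : 1 / (N : ℝ) ≤ δ := by
    rw [div_le_iff₀ hNpos]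
    have := mul_le_mul_of_nonneg_left hN1 hδ.le
    rwa [mul_one_div_cancel hδ.ne'] at this
  -- the grid
  let g : ({j : ι // j ≠ w} → Fin (N + 1)) → (ι → ℝ) := fun k j =>
    if h : j = w then a else ((k ⟨j, h⟩ : ℕ) : ℝ) / N
  have hg : ∀ k, g k ∈ cube ι := by
    intro k j _
    by_cases h : j = w
    · simp only [g, h, dif_pos]; exact ha
    · simp only [g, h, dif_neg, not_false_iff]
      refine ⟨by positivity, ?_⟩
      rw [div_le_one hNpos]
      have := (k ⟨j, h⟩).2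
      exact_mod_cast Nat.lt_succ_iff.mp this
  have hcov : nb δ (Φ '' face w a) ⊆
      ⋃ k, Metric.closedBall (Φ (g k)) ((L + 1) * δ) := by
    rintro y ⟨_, ⟨z, ⟨hz, hzw⟩, rfl⟩, hd⟩
    have hfl : ∀ j : {j : ι // j ≠ w}, ⌊z j * N⌋₊ < N + 1 := by
      intro j
      rw [Nat.lt_succ_iff]
      have hzj := hz j.1 (mem_univ _)
      have : z j * N ≤ N := by nlinarith [hzj.2]
      exact Nat.floor_le_of_le this
    let k : {j : ι // j ≠ w} → Fin (N + 1) := fun j => ⟨⌊z j * N⌋₊, hfl j⟩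
    rw [mem_iUnion]
    refine ⟨k, ?_⟩
    rw [Metric.mem_closedBall]
    have h1 : dist z (g k) ≤ δ := by
      rw [dist_pi_le_iff hδ.le]
      intro j
      by_cases h : j = w
      · subst h
        simp only [g, dif_pos, hzw, dist_self]; exact hδ.le
      · simp only [g, h, dif_neg, not_false_iff, k]
        refine le_trans ?_ hN3
        have hzj := hz j (mem_univ _)
        have hnn : 0 ≤ z j * N := mul_nonneg hzj.1 hNpos.le
        have e1 := Nat.floor_le hnn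
        have e2 := Nat.lt_floor_add_one (z j * N)
        rw [Real.dist_eq]
        have e3 : z j - (⌊z j * (N : ℝ)⌋₊ : ℝ) / N = (z j * N - ⌊z j * (N : ℝ)⌋₊) / N := by
          field_simp
        rw [e3, abs_div, abs_of_pos hNpos, abs_of_nonneg (by linarith)]
        exact div_le_div_of_nonneg_right (by linarith) hNpos.le
    have h2 : dist (Φ z) (Φ (g k)) ≤ L * δ :=
      (hΦ.dist_le_mul z hz (g k) (hg k)).trans (mul_le_mul_of_nonneg_left h1 L.2)
    calc dist y (Φ (g k)) ≤ dist y (Φ z) + dist (Φ z) (Φ (g k)) := dist_triangle _ _ _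
      _ ≤ δ + L * δ := add_le_add hd h2
      _ = (L + 1) * δ := by ring
  refine (measure_mono hcov).trans ((measure_iUnion_fintype_le _ _).trans ?_)
  have hv : ∀ k, volume (Metric.closedBall (Φ (g k)) ((L + 1) * δ)) =
      ENNReal.ofReal ((2 * ((L + 1) * δ)) ^ Fintype.card ι) := fun k =>
    Real.volume_pi_closedBall _ (by positivity)
  simp only [hv]
  rw [Finset.sum_const, Finset.card_univ, nsmul_eq_mul, Fintype.card_fun, Fintype.card_fin,
    ← ENNReal.ofReal_natCast, ← ENNReal.ofReal_mul (by positivity)]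
  apply ENNReal.ofReal_le_ofReal
  have hcard : Fintype.card ι = Fintype.card {j : ι // j ≠ w} + 1 := by
    have h := Fintype.card_subtype_compl (fun j : ι => j = w)
    have h1 : Fintype.card {j : ι // j = w} = 1 := Fintype.card_subtype_eq w
    have h2 : 0 < Fintype.card ι := Fintype.card_pos_iff.mpr ⟨w⟩
    have h3 : Fintype.card {j : ι // j ≠ w} = Fintype.card ι - 1 := by
      rw [← h1]; exact h
    omega
  set m := Fintype.card {j : ι // j ≠ w}
  rw [hcard]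
  push_cast
  have h5 : ((N : ℝ) + 1) ^ m ≤ (3 / δ) ^ m := pow_le_pow_left₀ (by positivity) hN2 m
  calc ((N : ℝ) + 1) ^ m * (2 * ((L + 1) * δ)) ^ (m + 1)
      ≤ (3 / δ) ^ m * (2 * ((L + 1) * δ)) ^ (m + 1) :=
        mul_le_mul_of_nonneg_right h5 (by positivity)
    _ = 3 ^ m * (2 * (L + 1)) ^ (m + 1) * δ := by
        rw [div_pow, show (2 * (((L : ℝ) + 1) * δ)) = (2 * (L + 1)) * δ by ring, mul_pow, pow_succ δ m]
        field_simp

end K797.Thin
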